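import Mathlib
import Groth.Prelude.Def_LCI2
import Groth.Agent.DefSchLib.LCIRel

/-!
# Tate's lemma: colon ideals of Koszul-regular sequences

If `f = c g` with `f` Koszul-regular, then `((f) : (g)) = (f) + (det c)`.
-/

set_option autoImplicit false
set_option backward.isDefEq.respectTransparency false
universe u

open CategoryTheory CategoryTheory.Limits CochainComplex.HomComplex ExteriorAlgebra

noncomputable section

namespace Groth.Agent.TateLib

open DefSchLib

variable {S : Type u} [CommRing S] {M : Type u} [AddCommGroup M] [Module S M]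

local notation "EA" => ExteriorAlgebra S M

/-- Contraction on the exterior algebra. -/
def con (φ : Module.Dual S M) : EA →ₗ[S] EA := CliffordAlgebra.contractLeft φ

theorem con_ι_mul (φ : Module.Dual S M) (v : M) (b : EA) :
    con φ (ι S v * b) = φ v • b - ι S v * con φ b := CliffordAlgebra.contractLeft_ι_mul φ v b

theorem con_one (φ : Module.Dual S M) : con φ (1 : EA) = 0 := CliffordAlgebra.contractLeft_one _ _

theorem con_con (φ : Module.Dual S M) (x : EA) : con φ (con φ x) = 0 :=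
  CliffordAlgebra.contractLeft_contractLeft φ x

theorem con_mem (φ : Module.Dual S M) : ∀ (p : ℕ) (x : EA), x ∈ ⋀[S]^(p + 1) M → con φ x ∈ ⋀[S]^p M := by
  intro p
  induction p with
  | zero =>
    intro x hx
    rw [zero_add, exteriorPower, pow_one] at hx
    obtain ⟨v, rfl⟩ := hx
    rw [exteriorPower, pow_zero, ← mul_one (ι S v), con_ι_mul, con_one, mul_zero, sub_zero]
    exact Submodule.smul_mem _ _ (Submodule.one_le.1 le_rfl)
  | succ p ih =>
    intro x hx
    rw [exteriorPower, pow_succ'] at hx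
    refine Submodule.mul_induction_on hx (fun a ha b hb => ?_) (fun a b ha hb => by rw [map_add]; exact add_mem ha hb)
    obtain ⟨v, rfl⟩ := ha
    rw [con_ι_mul]
    refine sub_mem (Submodule.smul_mem _ _ hb) ?_
    rw [exteriorPower, pow_succ']
    exact Submodule.mul_mem_mul ⟨v, rfl⟩ (ih b hb)

/-- A comparison of a Koszul complex with the exterior algebra. -/
structure Model (φ : Module.Dual S M) (L : List (S × M)) : Type (u + 1) where
  a : ((Koszul.koszul S (L.map Prod.fst)).X 0 : Type u) →ₗ[S] S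
  a_bij : Function.Bijective a
  a_range : ∀ r ∈ Ideal.ofList (L.map Prod.fst),
    ∃ z, a (((Koszul.koszul S (L.map Prod.fst)).d (-1) 0).hom z) = r
  d_mem : ∀ (i j : ℤ) (z : ((Koszul.koszul S (L.map Prod.fst)).X i : Type u)),
    ((Koszul.koszul S (L.map Prod.fst)).d i j).hom z ∈
      Ideal.ofList (L.map Prod.fst) • (⊤ : Submodule S ((Koszul.koszul S (L.map Prod.fst)).X j : Type u))
  free : ∀ i, Module.Free S ((Koszul.koszul S (L.map Prod.fst)).X i : Type u)
  pos : ∀ i, 0 < i → Subsingleton ((Koszul.koszul S (L.map Prod.fst)).X i : Type u)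
  neg : ∀ i, i < -(L.length : ℤ) → Subsingleton ((Koszul.koszul S (L.map Prod.fst)).X i : Type u)
  top : ((Koszul.koszul S (L.map Prod.fst)).X (-(L.length : ℤ)) : Type u)
  τ : ((Koszul.koszul S (L.map Prod.fst)).X (-(L.length : ℤ)) : Type u) →ₗ[S] S
  τ_top : τ top = 1
  top_gen : ∀ z, z = τ z • top
  Θ : ∀ i, ((Koszul.koszul S (L.map Prod.fst)).X i : Type u) →ₗ[S] EA
  Θ_mem : ∀ i z, Θ i z ∈ ⋀[S]^((-i).toNat) M
  Θ_d : ∀ (i j : ℤ), i + 1 = j → ∀ z, con φ (Θ i z) = Θ j (((Koszul.koszul S (L.map Prod.fst)).d i j).hom z)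
  Θ_zero : ∀ z, Θ 0 z = algebraMap S EA (a z)
  Θ_top : Θ _ top = (L.map fun q => ι S q.2).prod

theorem nonempty_model (φ : Module.Dual S M) :
    ∀ L : List (S × M), (∀ q ∈ L, φ q.2 = q.1) → Nonempty (Model φ L) := by
  intro L
  induction L with
  | nil =>
    intro _
    let K := Koszul.koszul S (([] : List (S × M)).map Prod.fst)
    have hz : ∀ i : ℤ, i ≠ 0 → Subsingleton (K.X i : Type u) := fun i hi =>
      ModuleCat.subsingleton_of_isZero (HomologicalComplex.isZero_single_obj_X _ _ _ _ hi)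
    let e : (K.X 0 : Type u) ≃ₗ[S] S :=
      (HomologicalComplex.singleObjXSelf (ComplexShape.up ℤ) 0 (ModuleCat.of S S)).toLinearEquiv
    haveI := hz (-1) (by decide)
    refine ⟨⟨e.toLinearMap, e.bijective, fun r hr => ⟨0, ?_⟩, fun i j z => ?_, fun i => ?_,
      fun i hi => hz i hi.ne', fun i hi => hz i (ne_of_lt (by simpa using hi)), e.symm 1, e.toLinearMap,
      e.apply_symm_apply 1, fun z => ?_,
      fun i => if h : i = 0 then by subst h; exact Algebra.linearMap S EA ∘ₗ e.toLinearMap else 0,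
      fun i z => ?_, fun i j hij z => ?_, fun z => ?_, ?_⟩⟩
    · simp only [List.map_nil, Ideal.ofList_nil, Submodule.mem_bot] at hr
      rw [map_zero, map_zero, hr]
    · rcases ne_or_eq i 0 with hi | rfl
      · haveI := hz i hi
        rw [Subsingleton.elim z 0, map_zero]; exact zero_mem _
      · rcases ne_or_eq j 0 with hj | rfl
        · haveI := hz j hj
          rw [Subsingleton.elim (((Koszul.koszul S _).d 0 j).hom z) 0]; exact zero_mem _
        · rw [HomologicalComplex.shape _ 0 0 (by simp)]; exact zero_mem _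
    · rcases ne_or_eq i 0 with hi | rfl
      · haveI := hz i hi; infer_instance
      · exact Module.Free.of_equiv e.symm
    · refine e.injective ?_
      rw [map_smul, e.apply_symm_apply, smul_eq_mul, mul_one]; rfl
    · rcases ne_or_eq i 0 with hi | rfl
      · rw [dif_neg hi]; exact zero_mem _
      · rw [dif_pos rfl]
        show algebraMap S EA (e z) ∈ (LinearMap.range (ι S : M →ₗ[S] EA)) ^ 0
        rw [pow_zero]
        exact Submodule.algebraMap_mem _
    · rcases ne_or_eq i 0 with hi | rfl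
      · haveI := hz i hi
        rw [Subsingleton.elim z 0, map_zero, map_zero, map_zero, map_zero]
      · rw [dif_pos rfl, dif_neg (by omega)]
        exact CliffordAlgebra.contractLeft_algebraMap _ _ _
    · rw [dif_pos rfl]; rfl
    · beta_reduce
      rw [dif_pos (show -(([] : List (S × M)).length : ℤ) = 0 from rfl)]
      show algebraMap S EA (e (e.symm 1)) = _
      rw [e.apply_symm_apply, map_one]; rfl
  | cons q L ih =>
    intro hq
    obtain ⟨m⟩ := ih fun p hp => hq p (List.mem_cons_of_mem _ hp)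
    obtain ⟨f, v⟩ := q
    have hfv : φ v = f := hq (f, v) List.mem_cons_self
    set l := L.map Prod.fst with hl
    set K := Koszul.koszul S l
    let ψ : K ⟶ K := f • 𝟙 K
    have hψ : ∀ (i : ℤ) (x : (K.X i : Type u)), (ψ.f i).hom x = f • x := fun i x => rfl
    let C := CochainComplex.mappingCone ψ
    let fst (i : ℤ) : (C.X i : Type u) →ₗ[S] (K.X (i + 1) : Type u) :=
      ((CochainComplex.mappingCone.fst ψ : Cochain C K 1).v i (i + 1) rfl).hom
    let snd (i : ℤ) : (C.X i : Type u) →ₗ[S] (K.X i : Type u) :=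
      ((CochainComplex.mappingCone.snd ψ).v i i (add_zero i)).hom
    let inl (i : ℤ) : (K.X (i + 1) : Type u) →ₗ[S] (C.X i : Type u) :=
      ((CochainComplex.mappingCone.inl ψ).v (i + 1) i (by omega)).hom
    let inr (i : ℤ) : (K.X i : Type u) →ₗ[S] (C.X i : Type u) := ((CochainComplex.mappingCone.inr ψ).f i).hom
    have hil : ∀ i x, fst i (inl i x) = x ∧ snd i (inl i x) = 0 := fun i x =>
      ⟨ConcreteCategory.congr_hom (CochainComplex.mappingCone.inl_v_fst_v ψ (i + 1) i rfl) x,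
        ConcreteCategory.congr_hom (CochainComplex.mappingCone.inl_v_snd_v ψ (i + 1) i (by omega)) x⟩
    have hir : ∀ i x, fst i (inr i x) = 0 ∧ snd i (inr i x) = x := fun i x =>
      ⟨ConcreteCategory.congr_hom (CochainComplex.mappingCone.inr_f_fst_v ψ i (i + 1) rfl) x,
        ConcreteCategory.congr_hom (CochainComplex.mappingCone.inr_f_snd_v ψ i) x⟩
    have hdec : ∀ i z, z = inl i (fst i z) + inr i (snd i z) := fun i z => cone_decomp ψ i (i + 1) rfl z
    let e (i : ℤ) : (C.X i : Type u) ≃ₗ[S] (K.X (i + 1) : Type u) × (K.X i : Type u) :=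
      LinearEquiv.ofLinear ((fst i).prod (snd i)) ((inl i).coprod (inr i))
        (LinearMap.ext fun p => Prod.ext
          (by show fst i (inl i p.1 + inr i p.2) = _; rw [map_add, (hil i _).1, (hir i _).1, add_zero]; rfl)
          (by show snd i (inl i p.1 + inr i p.2) = _; rw [map_add, (hil i _).2, (hir i _).2, zero_add]; rfl))
        (LinearMap.ext fun z => (hdec i z).symm)
    have hdf : ∀ i z, fst (i + 1) ((C.d i (i + 1)).hom z) = -((K.d (i + 1) (i + 1 + 1)).hom (fst i z)) := fun i z =>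
      ConcreteCategory.congr_hom (CochainComplex.mappingCone.d_fst_v ψ i (i + 1) (i + 1 + 1) rfl rfl) z
    have hds : ∀ i z, snd (i + 1) ((C.d i (i + 1)).hom z) =
        f • fst i z + (K.d i (i + 1)).hom (snd i z) := fun i z =>
      ConcreteCategory.congr_hom (CochainComplex.mappingCone.d_snd_v ψ i (i + 1) rfl) z
    have hI : Ideal.ofList l ≤ Ideal.ofList (f :: l) := by rw [Ideal.ofList_cons]; exact le_sup_right
    have hf : f ∈ Ideal.ofList (f :: l) := Ideal.subset_span List.mem_cons_self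
    haveI h1 := m.pos 1 one_pos
    haveI hneg := m.neg (-((((f, v) :: L).length : ℕ) : ℤ)) (by simp)
    have hlen : -((((f, v) :: L).length : ℕ) : ℤ) + 1 = -(L.length : ℤ) := by simp
    let tcast : ∀ {i j : ℤ}, i = j → ((K.X i : Type u) ≃ₗ[S] (K.X j : Type u)) := fun h => h ▸ LinearEquiv.refl S _
    have hcast : ∀ {i j : ℤ} (h : i = j) (x : (K.X i : Type u)), m.Θ j (tcast h x) = m.Θ i x := by
      intro i j h x; subst h; rfl
    let Θ' : ∀ i, (C.X i : Type u) →ₗ[S] EA := fun i =>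
      LinearMap.mulLeft S (ι S v) ∘ₗ m.Θ (i + 1) ∘ₗ fst i + m.Θ i ∘ₗ snd i
    refine ⟨⟨m.a ∘ₗ snd 0, ⟨fun x y h => ?_, fun r => ?_⟩, fun r hr => ?_, fun i j z => ?_, fun i => ?_,
      fun i hi => ?_, fun i hi => ?_, inl _ (tcast hlen.symm m.top), m.τ ∘ₗ (tcast hlen).toLinearMap ∘ₗ fst _,
      ?_, fun z => ?_, Θ', fun i z => ?_, fun i j hij z => ?_, fun z => ?_, ?_⟩⟩
    · haveI : Subsingleton (K.X (0 + 1) : Type u) := h1
      rw [hdec 0 x, hdec 0 y]
      exact congrArg₂ (· + ·) (congrArg _ (Subsingleton.elim _ _)) (congrArg _ (m.a_bij.1 h))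
    · obtain ⟨x, rfl⟩ := m.a_bij.2 r
      exact ⟨inr 0 x, congrArg m.a (hir 0 x).2⟩
    · change r ∈ Ideal.ofList (f :: l) at hr
      rw [Ideal.ofList_cons] at hr
      obtain ⟨_, hx, y, hy, rfl⟩ := Submodule.mem_sup.1 hr
      obtain ⟨c, rfl⟩ := Ideal.mem_span_singleton'.1 hx
      obtain ⟨w, hw⟩ := m.a_range y hy
      obtain ⟨x, hx'⟩ := m.a_bij.2 c
      refine ⟨inl (-1) (tcast (by norm_num) x) + inr (-1) w, ?_⟩
      show m.a (snd (-1 + 1) ((C.d (-1) (-1 + 1)).hom _)) = _
      rw [hds, map_add (fst (-1)), map_add (snd (-1)), (hil _ _).1, (hir _ _).1, add_zero, (hil _ _).2, (hir _ _).2,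
        zero_add, map_add, map_smul]
      show f • m.a x + m.a ((K.d (-1) 0).hom w) = _
      rw [hx', hw, smul_eq_mul, mul_comm]
    · change (C.d i j).hom z ∈ Ideal.ofList (f :: l) • (⊤ : Submodule S (C.X j : Type u))
      by_cases hij : i + 1 = j
      · subst hij
        rw [hdec (i + 1) ((C.d i (i + 1)).hom z), hdf, hds]
        refine add_mem ?_ ?_
        · rw [map_neg]
          refine neg_mem ?_
          have := Submodule.mem_map_of_mem (f := inl (i + 1)) (m.d_mem (i + 1) (i + 1 + 1) (fst i z))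
          rw [Submodule.map_smul''] at this
          exact Submodule.smul_mono hI le_top this
        · rw [map_add, map_smul]
          refine add_mem (Submodule.smul_mem_smul hf trivial) ?_
          have := Submodule.mem_map_of_mem (f := inr (i + 1)) (m.d_mem i (i + 1) (snd i z))
          rw [Submodule.map_smul''] at this
          exact Submodule.smul_mono hI le_top this
      · rw [C.shape i j hij]; exact zero_mem _
    · haveI := m.free i
      haveI := m.free (i + 1)
      exact Module.Free.of_equiv (e i).symm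
    · haveI := m.pos i hi
      haveI := m.pos (i + 1) (by omega)
      exact (e i).toEquiv.subsingleton
    · haveI := m.neg i (by simp at hi; omega)
      haveI := m.neg (i + 1) (by simp at hi; omega)
      exact (e i).toEquiv.subsingleton
    · show m.τ (tcast hlen (fst _ (inl _ _))) = 1
      rw [(hil _ _).1]
      have : ∀ {i j : ℤ} (h : i = j) (x : (K.X j : Type u)), tcast h (tcast h.symm x) = x := by
        intro i j h x; subst h; rfl
      rw [this, m.τ_top]
    · show z = m.τ (tcast hlen (fst _ z)) • _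
      conv_lhs => rw [hdec _ z, Subsingleton.elim (snd _ z) 0, map_zero, add_zero]
      have : ∀ {i j : ℤ} (h : i = j) (x : (K.X i : Type u)) (y : (K.X j : Type u)), tcast h x = y → x = tcast h.symm y := by
        intro i j h x y hxy; subst h; exact hxy
      exact (congrArg (inl _) ((this hlen _ _ (m.top_gen _)).trans (map_smul _ _ _))).trans (map_smul _ _ _)
    · show ι S v * m.Θ (i + 1) (fst i z) + m.Θ i (snd i z) ∈ _
      refine add_mem ?_ (m.Θ_mem _ _)
      rcases lt_or_ge i 0 with hi | hi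
      · have e1 : (-i).toNat = (-(i + 1)).toNat + 1 := by omega
        rw [e1]
        show _ ∈ (LinearMap.range (ι S : M →ₗ[S] EA)) ^ _
        rw [pow_succ']
        exact Submodule.mul_mem_mul ⟨v, rfl⟩ (m.Θ_mem _ _)
      · haveI := m.pos (i + 1) (by omega)
        rw [Subsingleton.elim (fst i z) 0, map_zero, mul_zero]; exact zero_mem _
    · subst hij
      show con φ (ι S v * m.Θ (i + 1) (fst i z) + m.Θ i (snd i z)) =
        ι S v * m.Θ (i + 1 + 1) (fst (i + 1) ((C.d i (i + 1)).hom z)) + m.Θ (i + 1) (snd (i + 1) ((C.d i (i + 1)).hom z))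
      rw [map_add, con_ι_mul, hfv, hdf, hds, m.Θ_d i (i + 1) rfl, m.Θ_d (i + 1) (i + 1 + 1) rfl, map_neg, mul_neg,
        map_add, map_smul]
      abel
    · show ι S v * m.Θ (0 + 1) (fst 0 z) + m.Θ 0 (snd 0 z) = _
      haveI : Subsingleton (K.X (0 + 1) : Type u) := h1
      rw [Subsingleton.elim (fst 0 z) 0, map_zero, mul_zero, zero_add, m.Θ_zero]
      rfl
    · show ι S v * m.Θ _ (fst _ (inl _ _)) + m.Θ _ (snd _ (inl _ _)) = _
      rw [(hil _ _).1, (hil _ _).2, map_zero, add_zero, hcast, m.Θ_top, List.map_cons, List.prod_cons]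

/-- Projective lifting into the image of a map. -/
theorem exists_comp_eq {P X Y : Type u} [AddCommGroup P] [Module S P] [Module.Projective S P] [AddCommGroup X]
    [Module S X] [AddCommGroup Y] [Module S Y] (d : X →ₗ[S] Y) (g : P →ₗ[S] Y)
    (hg : ∀ z, g z ∈ LinearMap.range d) : ∃ h : P →ₗ[S] X, ∀ z, d (h z) = g z := by
  obtain ⟨h, hh⟩ := Module.projective_lifting_property d.rangeRestrict (g.codRestrict _ hg) d.surjective_rangeRestrict
  exact ⟨h, fun z => congrArg Subtype.val (LinearMap.congr_fun hh z)⟩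

theorem ιMulti_eq_det {n : ℕ} (c : Matrix (Fin n) (Fin n) S) :
    ιMulti S n (fun i => c i) = c.det • ιMulti S n (fun i => (Pi.basisFun S (Fin n)) i) := by
  let e := Pi.basisFun S (Fin n)
  let G : (Fin n → S) [⋀^Fin n]→ₗ[S] ExteriorAlgebra S (Fin n → S) :=
    (LinearMap.toSpanSingleton S _ (ιMulti S n fun i => e i)).compAlternatingMap e.det
  have hG : (ιMulti S n : (Fin n → S) [⋀^Fin n]→ₗ[S] _) = G := by
    refine Module.Basis.ext_alternating e fun i h => ?_
    let σ : Equiv.Perm (Fin n) := Equiv.ofBijective i (Finite.injective_iff_bijective.1 h)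
    change ιMulti S n (e ∘ σ) = e.det (e ∘ σ) • ιMulti S n e
    rw [AlternatingMap.map_perm, AlternatingMap.map_perm, Module.Basis.det_self]
    simp [Units.smul_def, zsmul_eq_mul, Algebra.smul_def]
  have := congrArg (fun F : (Fin n → S) [⋀^Fin n]→ₗ[S] ExteriorAlgebra S (Fin n → S) => F fun i => c i) hG
  refine this.trans ?_
  simp only [G, LinearMap.compAlternatingMap_apply, LinearMap.toSpanSingleton_apply, e, Pi.basisFun_det]
  rfl

/-- **Tate's lemma.** -/
theorem mem_of_forall_mul_mem {n : ℕ} (f g : Fin n → S) (c : Matrix (Fin n) (Fin n) S)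
    (hc : ∀ i, f i = ∑ j, c i j * g j) (hf : LCI.IsKoszulRegularSeq S (List.ofFn f)) (a : S)
    (ha : ∀ j, a * g j ∈ Ideal.span (Set.range f)) : a ∈ Ideal.span (Set.range f) ⊔ Ideal.span {c.det} := by
  rcases Nat.eq_zero_or_pos n with rfl | hn
  · rw [Matrix.det_isEmpty, Ideal.span_singleton_one]; exact Submodule.mem_sup_right trivial
  let φ : Module.Dual S (Fin n → S) := Fintype.linearCombination S g
  let L : List (S × (Fin n → S)) := List.ofFn fun i => (f i, c i)
  obtain ⟨m⟩ := nonempty_model φ L fun q hq => by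
    obtain ⟨i, rfl⟩ := List.mem_ofFn.1 hq
    show Fintype.linearCombination S g (c i) = f i
    rw [Fintype.linearCombination_apply, hc]; rfl
  have hmap : L.map Prod.fst = List.ofFn f := List.map_ofFn
  have hlen : L.length = n := List.length_ofFn
  have hIspan : Ideal.ofList (L.map Prod.fst) = Ideal.span (Set.range f) := by
    rw [hmap, Ideal.ofList]; congr 1; ext x; simp [List.mem_ofFn]
  set K := Koszul.koszul S (L.map Prod.fst) with hK
  have hex : ∀ (p : ℕ) (x : (K.X (-((p + 1 : ℕ) : ℤ)) : Type u)), (K.d _ (-(p : ℤ))).hom x = 0 →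
      x ∈ LinearMap.range (K.d (-((p + 2 : ℕ) : ℤ)) (-((p + 1 : ℕ) : ℤ))).hom := by
    intro p x hx
    have h : K.ExactAt (-((p + 1 : ℕ) : ℤ)) := by
      rw [HomologicalComplex.exactAt_iff_isZero_homology]
      have := hf (-((p + 1 : ℕ) : ℤ)) (by omega)
      rwa [← hmap] at this
    rw [HomologicalComplex.exactAt_iff' _ (-((p + 2 : ℕ) : ℤ)) (-((p + 1 : ℕ) : ℤ)) (-(p : ℤ))
      (by simp <;> omega) (by simp <;> omega)] at h
    obtain ⟨w, hw⟩ := (ShortComplex.moduleCat_exact_iff _).mp h x hx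
    exact ⟨w, hw⟩
  have hdd : ∀ i j l z, (K.d j l).hom ((K.d i j).hom z) = 0 := fun i j l z =>
    ConcreteCategory.congr_hom (K.d_comp_d i j l) z
  haveI : ∀ i, Module.Free S (K.X i : Type u) := m.free
  let δ (p : ℕ) : ⋀[S]^(p + 1) (Fin n → S) →ₗ[S] ⋀[S]^p (Fin n → S) :=
    ((con φ) ∘ₗ Submodule.subtype _).codRestrict _ fun x => con_mem φ p x.1 x.2
  let ea := LinearEquiv.ofBijective m.a m.a_bij
  let ψ₀ : ⋀[S]^0 (Fin n → S) →ₗ[S] (K.X (-((0 : ℕ) : ℤ)) : Type u) :=
    ea.symm.toLinearMap ∘ₗ LinearMap.mulLeft S a ∘ₗ (ExteriorAlgebra.algebraMapInv).toLinearMap ∘ₗ Submodule.subtype _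
  have hψex : ∃ ψ : ∀ p : ℕ, ⋀[S]^p (Fin n → S) →ₗ[S] (K.X (-(p : ℤ)) : Type u),
      ψ 0 = ψ₀ ∧ ∀ p z, (K.d (-((p + 1 : ℕ) : ℤ)) (-(p : ℤ))).hom (ψ (p + 1) z) = ψ p (δ p z) := by
    let G := fun p : ℕ => {ψ : ⋀[S]^p (Fin n → S) →ₗ[S] (K.X (-(p : ℤ)) : Type u) //
      ∀ z, ψ (δ p z) ∈ LinearMap.range (K.d (-((p + 1 : ℕ) : ℤ)) (-(p : ℤ))).hom}
    have h0 : ∀ z, ψ₀ (δ 0 z) ∈ LinearMap.range (K.d (-((0 + 1 : ℕ) : ℤ)) (-((0 : ℕ) : ℤ))).hom := by
      intro z
      have hz : ExteriorAlgebra.algebraMapInv (con φ (z : ExteriorAlgebra S (Fin n → S))) ∈ Ideal.span (Set.range g) := by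
        have hm : (z : ExteriorAlgebra S (Fin n → S)) ∈ LinearMap.range (ι S) := by
          exact SetLike.le_def.1 (le_of_eq (pow_one _)) (z.2 : (z : ExteriorAlgebra S (Fin n → S)) ∈ (LinearMap.range (ι S)) ^ 1)
        obtain ⟨w, hw⟩ := hm
        rw [← hw, ← mul_one (ι S w), con_ι_mul, con_one, mul_zero, sub_zero, map_smul, map_one, smul_eq_mul, mul_one]
        show Fintype.linearCombination S g w ∈ _
        rw [Fintype.linearCombination_apply]
        exact Ideal.sum_mem _ fun j _ => Ideal.mul_mem_left _ _ (Ideal.subset_span ⟨j, rfl⟩)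
      have hr : a * ExteriorAlgebra.algebraMapInv (con φ (z : ExteriorAlgebra S (Fin n → S))) ∈
          Ideal.ofList (L.map Prod.fst) := by
        rw [hIspan]
        obtain ⟨w, hw⟩ := Ideal.mem_span_range_iff_exists_fun.1 hz
        rw [← hw, Finset.mul_sum]
        exact Ideal.sum_mem _ fun j _ => by rw [mul_left_comm]; exact Ideal.mul_mem_left _ _ (ha j)
      obtain ⟨w, hw⟩ := m.a_range _ hr
      refine ⟨w, ea.injective ?_⟩
      show m.a _ = ea (ea.symm _)
      rw [ea.apply_symm_apply]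
      exact hw
    have hnext : ∀ p (ψ : G p), ∃ ψ' : G (p + 1),
        ∀ z, (K.d (-((p + 1 : ℕ) : ℤ)) (-(p : ℤ))).hom (ψ'.1 z) = ψ.1 (δ p z) := by
      intro p ψ
      obtain ⟨ψ', hψ'⟩ := exists_comp_eq (K.d (-((p + 1 : ℕ) : ℤ)) (-(p : ℤ))).hom (ψ.1 ∘ₗ δ p) ψ.2
      refine ⟨⟨ψ', fun z => hex p _ ?_⟩, hψ'⟩
      rw [hψ']
      show ψ.1 (δ p (δ (p + 1) z)) = 0
      rw [show δ p (δ (p + 1) z) = 0 from Subtype.ext (con_con φ _), map_zero]
    choose nx hnx using hnext
    let seq : ∀ p, G p := fun p => Nat.rec ⟨ψ₀, h0⟩ nx p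
    exact ⟨fun p => (seq p).1, rfl, fun p z => hnx p (seq p) z⟩
  obtain ⟨ψ, hψ0, hψd⟩ := hψex
  let Θ (p : ℕ) : (K.X (-(p : ℤ)) : Type u) →ₗ[S] ⋀[S]^p (Fin n → S) :=
    (m.Θ (-(p : ℤ))).codRestrict _ fun z => by simpa using m.Θ_mem (-(p : ℤ)) z
  let χ (p : ℕ) : (K.X (-(p : ℤ)) : Type u) →ₗ[S] (K.X (-(p : ℤ)) : Type u) := ψ p ∘ₗ Θ p - a • LinearMap.id
  have hχd : ∀ (p : ℕ) z, (K.d _ (-(p : ℤ))).hom (χ (p + 1) z) = χ p ((K.d (-((p + 1 : ℕ) : ℤ)) (-(p : ℤ))).hom z) := by
    intro p z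
    simp only [χ, LinearMap.sub_apply, LinearMap.comp_apply, LinearMap.smul_apply, LinearMap.id_apply, map_sub,
      map_smul, hψd]
    congr 2
    exact Subtype.ext (m.Θ_d _ _ (by omega) z)
  have hχ0 : ∀ z, χ 0 z = 0 := fun z => ea.injective (by
    simp only [χ, LinearMap.sub_apply, LinearMap.comp_apply, LinearMap.smul_apply, LinearMap.id_apply, map_sub,
      map_smul, map_zero, hψ0]
    show m.a (ea.symm _) - a • m.a z = 0
    rw [show m.a (ea.symm _) = ea (ea.symm _) from rfl, ea.apply_symm_apply]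
    show a * ExteriorAlgebra.algebraMapInv (m.Θ 0 z) - a * m.a z = 0
    rw [m.Θ_zero, AlgHom.commutes, Algebra.algebraMap_self, RingHom.id_apply, sub_self])
  have hh : ∀ p : ℕ, ∃ h : (K.X (-(p : ℤ)) : Type u) →ₗ[S] (K.X (-((p + 1 : ℕ) : ℤ)) : Type u),
      ∀ z, (K.d _ (-(p : ℤ))).hom (χ (p + 1) z - h ((K.d _ (-(p : ℤ))).hom z)) = 0 := by
    intro p
    induction p with
    | zero => exact ⟨0, fun z => by rw [LinearMap.zero_apply, sub_zero, hχd, hχ0]⟩
    | succ p ih =>
      obtain ⟨h, hh⟩ := ih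
      obtain ⟨h', hh'⟩ := exists_comp_eq (K.d (-((p + 2 : ℕ) : ℤ)) (-((p + 1 : ℕ) : ℤ))).hom
        (χ (p + 1) - h ∘ₗ (K.d _ (-(p : ℤ))).hom) (fun z => hex p _ (hh z))
      refine ⟨h', fun z => ?_⟩
      rw [map_sub, hχd, hh']
      show χ (p + 1) _ - (χ (p + 1) _ - h ((K.d _ _).hom ((K.d _ _).hom z))) = 0
      rw [hdd, map_zero, sub_zero, sub_self]
  obtain ⟨p, rfl⟩ : ∃ p, n = p + 1 := ⟨n - 1, by omega⟩
  obtain ⟨h, hh⟩ := hh p
  haveI := m.neg (-((p + 2 : ℕ) : ℤ)) (by rw [hlen]; omega)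
  have key : ∀ z, χ (p + 1) z = h ((K.d _ (-(p : ℤ))).hom z) := fun z => by
    obtain ⟨w, hw⟩ := hex p _ (hh z)
    rw [Subsingleton.elim w 0, map_zero] at hw
    exact sub_eq_zero.1 hw.symm
  obtain ⟨top, τ, hτtop, hgen, htop⟩ : ∃ (top : (K.X (-((p + 1 : ℕ) : ℤ)) : Type u))
      (τ : (K.X (-((p + 1 : ℕ) : ℤ)) : Type u) →ₗ[S] S), τ top = 1 ∧ (∀ z, z = τ z • top) ∧
      m.Θ _ top = (L.map fun q => ι S q.2).prod := by
    suffices ∀ N : ℕ, L.length = N → ∃ (top : (K.X (-(N : ℤ)) : Type u))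
      (τ : (K.X (-(N : ℤ)) : Type u) →ₗ[S] S), τ top = 1 ∧ (∀ z, z = τ z • top) ∧
      m.Θ _ top = (L.map fun q => ι S q.2).prod from this _ hlen
    rintro N rfl
    exact ⟨m.top, m.τ, m.τ_top, m.top_gen, m.Θ_top⟩
  have hprod : (L.map fun q => ι S q.2).prod = c.det • ιMulti S (p + 1) (fun i => (Pi.basisFun S (Fin (p + 1))) i) := by
    rw [← ιMulti_eq_det, ιMulti_apply]
    simp only [L, List.map_ofFn]
    rfl
  let ω : ⋀[S]^(p + 1) (Fin (p + 1) → S) :=
    ⟨ιMulti S (p + 1) (fun i => (Pi.basisFun S (Fin (p + 1))) i), ιMulti_range S (p + 1) ⟨_, rfl⟩⟩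
  have hΘtop : Θ (p + 1) top = c.det • ω := Subtype.ext (htop.trans hprod)
  have h1 := key top
  simp only [χ, LinearMap.sub_apply, LinearMap.comp_apply, LinearMap.smul_apply, LinearMap.id_apply, hΘtop,
    map_smul] at h1
  have h2 : τ (h ((K.d _ (-(p : ℤ))).hom top)) ∈ Ideal.ofList (L.map Prod.fst) := by
    have := Submodule.mem_map_of_mem (f := τ ∘ₗ h) (m.d_mem (-((p + 1 : ℕ) : ℤ)) (-(p : ℤ)) top)
    rw [Submodule.map_smul''] at this
    have h3 := Submodule.smul_mono le_rfl le_top this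
    rwa [Ideal.smul_eq_mul, Ideal.mul_top] at h3
  rw [← h1, map_sub, map_smul, map_smul, hτtop, smul_eq_mul, smul_eq_mul, mul_one, hIspan] at h2
  have : a = c.det * τ (ψ (p + 1) ω) - (c.det * τ (ψ (p + 1) ω) - a) := by ring
  rw [this]
  exact sub_mem (Submodule.mem_sup_right (Ideal.mem_span_singleton.2 (dvd_mul_right _ _)))
    (Submodule.mem_sup_left h2)

end Groth.Agent.TateLib
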