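import Groth.Agent.CILib.KoszulRegular
import Groth.Agent.TateLib.Koszul
import Groth.Agent.GorInvLib.Det
import Groth.Prelude.Def_Disc

/-! The Noether different of a quasi-finite global complete intersection. -/

set_option autoImplicit false
universe u

open MvPolynomial TensorProduct

namespace Groth.Agent.TateLib

theorem isRelGCI_of_quasiFinite {R : Type u} [CommRing R] {n : ℕ} (F : Fin n → MvPolynomial (Fin n) R)
    [Algebra.QuasiFinite R (MvPolynomial (Fin n) R ⧸ Ideal.span (Set.range F))] : Synt.IsRelGCI R n n F := by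
  intro p hp
  haveI := hp
  refine ⟨le_rfl, ?_⟩
  haveI : IsArtinianRing (p.asIdeal.Fiber (Synt.RelGCIRing R n n F)) := inferInstance
  rw [Nat.sub_self]
  exact (ringKrullDimZero_iff_ringKrullDim_eq_zero (R := p.asIdeal.Fiber (Synt.RelGCIRing R n n F))).1
    (isArtinianRing_iff_isNoetherianRing_krullDimLE_zero (R := p.asIdeal.Fiber (Synt.RelGCIRing R n n F)) |>.1 inferInstance).2

variable {A B : Type u} [CommRing A] [CommRing B] [Algebra A B] {n : ℕ}

theorem sub_C_eval_mem (x : Fin n → B) (a : MvPolynomial (Fin n) B) :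
    a - C (eval x a) ∈ Ideal.span (Set.range fun j => X j - C (x j)) := by
  induction a using MvPolynomial.induction_on with
  | C b => simp
  | add a b ha hb =>
    rw [map_add, map_add]
    convert add_mem ha hb using 1
    ring
  | mul_X a i ha =>
    rw [map_mul, eval_X, map_mul,
      show a * X i - C (eval x a) * C (x i) = (a - C (eval x a)) * X i + C (eval x a) * (X i - C (x i)) by ring]
    exact add_mem (Ideal.mul_mem_right _ _ ha) (Ideal.mul_mem_left _ _ (Ideal.subset_span ⟨i, rfl⟩))

theorem noetherDifferent_eq_of_quasiFinite [Algebra.QuasiFinite A B] (π : MvPolynomial (Fin n) A →ₐ[A] B)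
    (hπ : Function.Surjective π) (f : Fin n → MvPolynomial (Fin n) A)
    (hker : RingHom.ker π = Ideal.span (Set.range f)) :
    Disc.noetherDifferent A B = Ideal.span {π (Matrix.det (Matrix.of fun i j => pderiv j (f i)))} := by
  classical
  let F' : Fin n → MvPolynomial (Fin n) B := fun i => MvPolynomial.map (algebraMap A B) (f i)
  let x : Fin n → B := fun j => π (X j)
  let g : Fin n → MvPolynomial (Fin n) B := fun j => X j - C (x j)
  have hev : ∀ u, eval x (MvPolynomial.map (algebraMap A B) u) = π u := fun u => by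
    rw [eval_map, ← aeval_def]
    exact AlgHom.congr_fun (aeval_unique π).symm u
  have hf0 : ∀ i, π (f i) = 0 := fun i => by
    rw [← RingHom.mem_ker, hker]; exact Ideal.subset_span ⟨i, rfl⟩
  have hFg : ∀ i, F' i ∈ Ideal.span (Set.range g) := fun i => by
    have := sub_C_eval_mem x (F' i)
    rwa [hev, hf0, map_zero, sub_zero] at this
  choose c hc using fun i => Ideal.mem_span_range_iff_exists_fun.1 (hFg i)
  let Cm : Matrix (Fin n) (Fin n) (MvPolynomial (Fin n) B) := Matrix.of c
  let inR : B →ₐ[A] B ⊗[A] B := Algebra.TensorProduct.includeRight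
  let Q : MvPolynomial (Fin n) B →ₐ[B] B ⊗[A] B := aeval fun j => inR (x j)
  have hQmap : ∀ u, Q (MvPolynomial.map (algebraMap A B) u) = inR (π u) := fun u => by
    show aeval (fun j => inR (x j)) (MvPolynomial.map (algebraMap A B) u) = _
    rw [aeval_map_algebraMap]
    exact AlgHom.congr_fun (aeval_unique (inR.comp π)).symm u
  let K := Ideal.span (Set.range F')
  have h0 : ∀ b ∈ K, Q b = 0 := fun b hb => RingHom.mem_ker.1
    ((Ideal.span_le.2 (by rintro _ ⟨i, rfl⟩; exact RingHom.mem_ker.2 (by rw [hQmap, hf0, map_zero])) :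
      K ≤ RingHom.ker Q) hb)
  let e : (MvPolynomial (Fin n) A ⧸ RingHom.ker π) ≃ₐ[A] B := Ideal.quotientKerAlgEquivOfSurjective hπ
  let φK : (MvPolynomial (Fin n) A ⧸ RingHom.ker π) →ₐ[A] MvPolynomial (Fin n) B ⧸ K :=
    Ideal.Quotient.liftₐ (RingHom.ker π)
      ((Ideal.Quotient.mkₐ A K).comp (MvPolynomial.mapAlgHom (Algebra.ofId A B))) (by
        intro a ha
        have : Ideal.span (Set.range f) ≤ K.comap (MvPolynomial.map (algebraMap A B)) :=
          Ideal.span_le.2 (by rintro _ ⟨i, rfl⟩; exact Ideal.subset_span ⟨i, rfl⟩)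
        exact Ideal.Quotient.eq_zero_iff_mem.2 (this (hker ▸ ha)))
  let ψ : B →ₐ[A] MvPolynomial (Fin n) B ⧸ K := φK.comp e.symm.toAlgHom
  have hψ : ∀ u, ψ (π u) = Ideal.Quotient.mk K (MvPolynomial.map (algebraMap A B) u) := fun u => by
    have : e.symm (π u) = Ideal.Quotient.mk _ u := by
      rw [AlgEquiv.symm_apply_eq]; rfl
    show φK (e.symm (π u)) = _
    rw [this]; rfl
  let Ψ : B ⊗[A] B →ₐ[B] MvPolynomial (Fin n) B ⧸ K :=
    Algebra.TensorProduct.lift (Algebra.ofId B _) ψ (fun _ _ => Commute.all _ _)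
  have hΨQ : ∀ a, Ψ (Q a) = Ideal.Quotient.mk K a := by
    intro a
    suffices Ψ.comp Q = Ideal.Quotient.mkₐ B K from AlgHom.congr_fun this a
    refine MvPolynomial.algHom_ext fun j => ?_
    simp [Q, Ψ, inR, x, hψ]
  have hQsurj : Function.Surjective Q := by
    intro z
    induction z using TensorProduct.induction_on with
    | zero => exact ⟨0, map_zero _⟩
    | tmul b b' =>
      obtain ⟨u, rfl⟩ := hπ b'
      refine ⟨C b * MvPolynomial.map (algebraMap A B) u, ?_⟩
      rw [map_mul, hQmap]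
      simp [Q, inR]
    | add a b ha hb =>
      obtain ⟨a', rfl⟩ := ha
      obtain ⟨b', rfl⟩ := hb
      exact ⟨a' + b', map_add _ _ _⟩
  haveI : Algebra.QuasiFinite B (MvPolynomial (Fin n) B ⧸ Ideal.span (Set.range F')) :=
    Algebra.QuasiFinite.of_surjective_algHom Ψ fun y => by
      obtain ⟨a, rfl⟩ := Ideal.Quotient.mk_surjective y
      exact ⟨Q a, hΨQ a⟩
  have hK := CILib.isKoszulRegularSeq_of_isRelGCI F' (isRelGCI_of_quasiFinite F')
  let μ : B ⊗[A] B →ₐ[A] B := Algebra.TensorProduct.lmul' A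
  have hμ : ∀ a, μ (Q a) = eval x a := by
    intro a
    induction a using MvPolynomial.induction_on with
    | C b => simp [μ, Q]
    | add a b ha hb => rw [map_add, map_add, ha, hb, map_add]
    | mul_X a i ha => rw [map_mul, map_mul, ha, map_mul]; simp [μ, Q, inR]
  have hdet : Q Cm.det ∈ Submodule.annihilator (RingHom.ker μ) := by
    rw [Submodule.mem_annihilator]
    intro z hz
    obtain ⟨a, rfl⟩ := hQsurj z
    have ha : a ∈ Ideal.span (Set.range g) := by
      have := sub_C_eval_mem x a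
      rwa [← hμ, RingHom.mem_ker.1 hz, map_zero, sub_zero] at this
    obtain ⟨b, hb⟩ := Ideal.mem_span_range_iff_exists_fun.1 ha
    rw [smul_eq_mul, ← map_mul, ← hb, Finset.mul_sum, map_sum]
    refine Finset.sum_eq_zero fun l _ => ?_
    have hmem : g l * Cm.det ∈ K := GorInvLib.mul_det_mem g Cm K
      (fun i => (congrArg (· ∈ K) (hc i)).mpr (Ideal.subset_span ⟨i, rfl⟩)) l
    rw [show Cm.det * (b l * g l) = b l * (g l * Cm.det) by ring, map_mul, h0 _ hmem, mul_zero]
  have hjac : μ (Q Cm.det) = π (Matrix.det (Matrix.of fun i j => pderiv j (f i))) := by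
    rw [hμ, RingHom.map_det, AlgHom.map_det]
    congr 1
    ext i j
    show eval x (c i j) = π (pderiv j (f i))
    rw [← hev, ← MvPolynomial.pderiv_map]
    show _ = eval x (pderiv j (F' i))
    rw [← hc i, map_sum, map_sum, Finset.sum_eq_single j]
    · rw [pderiv_mul]; simp [g]
    · intro l _ hl
      rw [pderiv_mul]; simp [g, pderiv_X_of_ne hl]
    · simp
  rw [← hjac]
  refine le_antisymm (Ideal.map_le_iff_le_comap.2 fun ξ hξ => ?_) ?_
  · rw [Ideal.mem_comap, Ideal.mem_span_singleton']
    obtain ⟨a, rfl⟩ := hQsurj ξ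
    have hkQ : ∀ b, Q b = 0 → b ∈ K := fun b hb => by
      rw [← Ideal.Quotient.eq_zero_iff_mem, ← hΨQ, hb, map_zero]
    have hg0 : ∀ j, Q (g j) ∈ RingHom.ker μ := fun j => by
      rw [RingHom.mem_ker, hμ]; simp [g]
    have := mem_of_forall_mul_mem F' g Cm (fun i => (hc i).symm) hK a fun j => hkQ _ (by
      rw [map_mul]; exact Submodule.mem_annihilator.1 hξ _ (hg0 j))
    obtain ⟨k, hk, d, hd, rfl⟩ := Submodule.mem_sup.1 this
    obtain ⟨r, rfl⟩ := Ideal.mem_span_singleton'.1 hd
    refine ⟨μ (Q r), ?_⟩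
    rw [map_add, h0 _ hk, zero_add, map_mul, ← map_mul]
  · rw [Ideal.span_singleton_le_iff_mem]
    exact Ideal.mem_map_of_mem _ hdet

end Groth.Agent.TateLib
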