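import Groth.Agent.GorInvLib.Det
import Groth.Agent.DiscLib.Basic

/-!
# The trace form of a finite free complete intersection

For `B = A[x_1, …, x_n]/(r_1, …, r_n)` finite free over `A` there is a functional `τ` generating
`Hom_A(B, A)` with `Tr(x) = τ(det(∂r_i/∂x_j) x)` (Tate, Scheja–Storch).
-/

set_option autoImplicit false
set_option backward.isDefEq.respectTransparency false
universe u v w

open MvPolynomial TensorProduct Matrix

noncomputable section

namespace Groth.Agent.TateLib

variable {A : Type u} [CommRing A] {B : Type v} [CommRing B] [Algebra A B]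

/-- Contraction of the second factor. -/
def ctr (φ : B →ₗ[A] A) : B ⊗[A] B →ₗ[A] B := (TensorProduct.rid A B).toLinearMap ∘ₗ LinearMap.lTensor B φ

@[simp] theorem ctr_tmul (φ : B →ₗ[A] A) (x y : B) : ctr φ (x ⊗ₜ[A] y) = φ y • x := by simp [ctr]

theorem ctr_left (φ : B →ₗ[A] A) (r : B) (z : B ⊗[A] B) :
    ctr φ ((r ⊗ₜ[A] (1 : B)) * z) = r * ctr φ z := by
  induction z using TensorProduct.induction_on with
  | zero => simp
  | tmul a b => simp
  | add x y hx hy => simp only [mul_add, map_add, hx, hy]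

theorem ctr_right (φ : B →ₗ[A] A) (r : B) (z : B ⊗[A] B) :
    ctr φ (((1 : B) ⊗ₜ[A] r) * z) = ctr (φ ∘ₗ LinearMap.mulLeft A r) z := by
  induction z using TensorProduct.induction_on with
  | zero => simp
  | tmul a b => simp
  | add x y hx hy => simp only [mul_add, map_add, hx, hy]

/-- Contraction as a linear map in the functional. -/
def ctrₗ (z : B ⊗[A] B) : (B →ₗ[A] A) →ₗ[A] B where
  toFun φ := ctr φ z
  map_add' φ ψ := by
    induction z using TensorProduct.induction_on with
    | zero => simp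
    | tmul a b => simp [add_smul]
    | add x y hx hy => simp only [map_add, hx, hy]; abel
  map_smul' c φ := by
    induction z using TensorProduct.induction_on with
    | zero => simp
    | tmul a b => simp [mul_smul]
    | add x y hx hy => simp only [map_add, hx, hy, smul_add, RingHom.id_apply]

variable {ι : Type w} [Fintype ι] (bB : Module.Basis ι A B)

theorem sum_ctr (z : B ⊗[A] B) : z = ∑ i, ctr (bB.coord i) z ⊗ₜ[A] bB i := by
  induction z using TensorProduct.induction_on with
  | zero => simp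
  | tmul x y =>
    conv_lhs => rw [← bB.sum_repr y, tmul_sum]
    refine Finset.sum_congr rfl fun i _ => ?_
    rw [ctr_tmul, smul_tmul]
    rfl
  | add x y hx hy =>
    conv_lhs => rw [hx, hy]
    simp only [map_add, add_tmul, Finset.sum_add_distrib]

/-- A map killing generators of the kernel descends. -/
theorem exists_lift {P C τ : Type*} [CommRing P] [Algebra A P] [CommRing C] [Algebra A C] (π : P →ₐ[A] B)
    (hπ : Function.Surjective π) (r : τ → P) (hker : RingHom.ker π = Ideal.span (Set.range r)) (f : P →ₐ[A] C)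
    (hf : ∀ i, f (r i) = 0) : ∃ g : B →ₐ[A] C, ∀ p, g (π p) = f p := by
  have h : RingHom.ker π ≤ RingHom.ker f := by
    rw [hker, Ideal.span_le]
    rintro _ ⟨i, rfl⟩
    exact hf i
  exact ⟨AlgHom.liftOfSurjective π hπ f h, fun p => AlgHom.liftOfSurjective_apply π hπ f h p⟩

section Presentation

variable {σ : Type w} [Fintype σ] [DecidableEq σ] (π : MvPolynomial σ A →ₐ[A] B)
  (r : σ → MvPolynomial σ A)

local notation "PP" => MvPolynomial σ A ⊗[A] MvPolynomial σ A

/-- `1 ⊗ u - u ⊗ 1`. -/
def dp (u : MvPolynomial σ A) : PP := (1 : MvPolynomial σ A) ⊗ₜ[A] u - u ⊗ₜ[A] (1 : MvPolynomial σ A)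

omit [Fintype σ] [DecidableEq σ] in
theorem dp_mem_span (u : MvPolynomial σ A) : dp u ∈ Ideal.span (Set.range fun i => dp (A := A) (X i : MvPolynomial σ A)) := by
  induction u using MvPolynomial.induction_on with
  | C a =>
    rw [dp, ← algebraMap_eq, Algebra.algebraMap_eq_smul_one, tmul_smul, smul_tmul', sub_self]
    exact zero_mem _
  | add p q hp hq =>
    rw [show dp (p + q) = dp p + dp q by simp only [dp, tmul_add, add_tmul]; abel]
    exact add_mem hp hq
  | mul_X p i hp =>
    rw [show dp (p * X i) = dp p * ((1 : MvPolynomial σ A) ⊗ₜ[A] X i) + (p ⊗ₜ[A] (1 : MvPolynomial σ A)) * dp (X i) by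
      simp only [dp, sub_mul, mul_sub, Algebra.TensorProduct.tmul_mul_tmul, one_mul, mul_one]; abel]
    exact add_mem (Ideal.mul_mem_right _ _ hp) (Ideal.mul_mem_left _ _ (Ideal.subset_span ⟨i, rfl⟩))

/-- The Jacobian determinant in `B`. -/
def jac : B := (Matrix.of fun i j => π (pderiv j (r i))).det

variable {π r}

theorem exists_bezoutian (hker : RingHom.ker π = Ideal.span (Set.range r)) (hπ : Function.Surjective π) :
    ∃ Δ : B ⊗[A] B, Algebra.TensorProduct.lmul' (S := B) A Δ = jac π r ∧
      (∀ b : B, ((1 : B) ⊗ₜ[A] b) * Δ = (b ⊗ₜ[A] (1 : B)) * Δ) ∧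
      ∀ M : Ideal B, M.IsMaximal → ∃ φ : B →ₗ[A] A, Module.Finite A B → Module.Free A B → ctr φ Δ ∉ M := by
  classical
  choose c hc using fun i => Ideal.mem_span_range_iff_exists_fun.1 (dp_mem_span (A := A) (r i))
  let C : Matrix σ σ PP := Matrix.of c
  let Q : PP →ₐ[A] B ⊗[A] B := Algebra.TensorProduct.map π π
  have hri : ∀ i, π (r i) = 0 := fun i => by
    rw [← RingHom.mem_ker, hker]; exact Ideal.subset_span ⟨i, rfl⟩
  have hQr : ∀ i, Q (dp (r i)) = 0 := fun i => by
    simp [Q, dp, hri i]
  refine ⟨Q C.det, ?_, fun b => ?_, fun M hM => ?_⟩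
  · let D : σ → PP →ₗ[A] MvPolynomial σ A := fun j =>
      LinearMap.mul' A _ ∘ₗ LinearMap.lTensor _ (pderiv j).toLinearMap
    let μ := Algebra.TensorProduct.lmul' (S := MvPolynomial σ A) A
    have hD : ∀ j p q, D j (p ⊗ₜ[A] q) = p * pderiv j q := fun j p q => by simp [D]
    have hDmul : ∀ j z w, D j (z * w) = D j z * μ w + μ z * D j w := fun j z w => by
      induction z using TensorProduct.induction_on with
      | zero => simp
      | add x y hx hy => simp only [add_mul, map_add, hx, hy]; ring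
      | tmul p q =>
        induction w using TensorProduct.induction_on with
        | zero => simp
        | add x y hx hy => simp only [mul_add, map_add, hx, hy]; ring
        | tmul p' q' =>
          simp only [Algebra.TensorProduct.tmul_mul_tmul, hD, μ, Algebra.TensorProduct.lmul'_apply_tmul,
            Derivation.leibniz, smul_eq_mul]
          ring
    have hDd : ∀ j u, D j (dp u) = pderiv j u := fun j u => by simp [dp, hD]
    have hμd : ∀ u, μ (dp (A := A) (σ := σ) u) = 0 := fun u => by simp [dp, μ]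
    have hCμ : ∀ i j, μ (C i j) = pderiv j (r i) := fun i j => by
      have h := congrArg (D j) (hc i)
      rw [map_sum, hDd] at h
      rw [← h, Finset.sum_eq_single j]
      · rw [hDmul, hμd, hDd, pderiv_X_self]; simp [C]
      · intro l _ hl
        rw [hDmul, hμd, hDd, pderiv_X_of_ne hl]; simp
      · simp
    have hμQ : ∀ z, Algebra.TensorProduct.lmul' (S := B) A (Q z) = π (μ z) := fun z => by
      induction z using TensorProduct.induction_on with
      | zero => simp
      | tmul p q => simp [Q, μ]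
      | add x y hx hy => simp only [map_add, hx, hy]
    rw [hμQ, jac, μ.map_det, π.map_det]
    congr 1
    ext i j
    simp [hCμ]
  · obtain ⟨u, rfl⟩ := hπ b
    rw [← sub_eq_zero, ← sub_mul,
      show (1 : B) ⊗ₜ[A] π u - π u ⊗ₜ[A] (1 : B) = Q (dp u) by simp [Q, dp], ← map_mul]
    obtain ⟨a, ha⟩ := Ideal.mem_span_range_iff_exists_fun.1 (dp_mem_span (A := A) u)
    rw [← ha, Finset.sum_mul, map_sum]
    refine Finset.sum_eq_zero fun l _ => ?_
    have hmem : dp (X l) * C.det ∈ RingHom.ker Q := GorInvLib.mul_det_mem (fun i => dp (X i)) C (RingHom.ker Q)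
      (fun i => by
        rw [RingHom.mem_ker, show (C *ᵥ fun i => dp (X i)) i = dp (r i) from hc i]
        exact hQr i) l
    rw [mul_assoc, map_mul, RingHom.mem_ker.1 hmem, mul_zero]
  · by_cases hff : Module.Finite A B ∧ Module.Free A B
    swap
    · exact ⟨0, fun h1 h2 => absurd ⟨h1, h2⟩ hff⟩
    obtain ⟨hfin, hfree⟩ := hff
    let bB := Module.Free.chooseBasis A B
    suffices h : ∃ i, ctr (bB.coord i) (Q C.det) ∉ M by
      obtain ⟨i, hi⟩ := h
      exact ⟨bB.coord i, fun _ _ => hi⟩
    by_contra hall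
    push Not at hall
    letI := Ideal.Quotient.field M
    let q : B →ₐ[A] B ⧸ M := Ideal.Quotient.mkₐ A M
    let sh : MvPolynomial σ A →ₐ[A] MvPolynomial σ (B ⧸ M) :=
      MvPolynomial.aeval fun i => X i + MvPolynomial.C (q (π (X i)))
    let cst : B →ₐ[A] MvPolynomial σ (B ⧸ M) := (IsScalarTower.toAlgHom A (B ⧸ M) (MvPolynomial σ (B ⧸ M))).comp q
    let ev : PP →ₐ[A] MvPolynomial σ (B ⧸ M) :=
      Algebra.TensorProduct.lift (cst.comp π) sh (fun _ _ => Commute.all _ _)
    have hev : ∀ p s, ev (p ⊗ₜ[A] s) = MvPolynomial.C (q (π p)) * sh s := fun p s => by simp [ev, cst]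
    let θ : σ → MvPolynomial σ (B ⧸ M) := fun i => sh (r i)
    let J := Ideal.span (Set.range θ)
    have hevr : ∀ i, ev (dp (r i)) = θ i := fun i => by
      simp [dp, hev, hri i, θ]
    have hevX : ∀ i, ev (dp (X i)) = X i := fun i => by
      simp only [dp, map_sub, hev, map_one, one_mul, mul_one, sh, aeval_X]
      ring
    have hc' : C.map ev *ᵥ X = θ := by
      funext i
      have := congrArg ev (hc i)
      simp only [map_sum, map_mul, hevr, hevX] at this
      exact this
    obtain ⟨shB, hshB⟩ := exists_lift (C := MvPolynomial σ (B ⧸ M) ⧸ J) π hπ r hker ((Ideal.Quotient.mkₐ A J).comp sh) fun i => by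
      show Ideal.Quotient.mk J (θ i) = 0
      exact Ideal.Quotient.eq_zero_iff_mem.2 (Ideal.subset_span (Set.mem_range_self i))
    replace hshB : ∀ p, shB (π p) = Ideal.Quotient.mk J (sh p) := hshB
    let Ψ : B ⊗[A] B →ₐ[A] MvPolynomial σ (B ⧸ M) ⧸ J :=
      Algebra.TensorProduct.lift ((Ideal.Quotient.mkₐ A J).comp cst) shB (fun x y => Commute.all (((Ideal.Quotient.mkₐ A J).comp cst) x) (shB y))
    have hΨ : ∀ z, Ψ (Q z) = Ideal.Quotient.mk J (ev z) := fun z => by
      induction z using TensorProduct.induction_on with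
      | zero => simp
      | tmul p s => simp [Ψ, Q, hev, hshB, cst]
      | add x y hx hy => simp only [map_add, hx, hy]
    have hsum : ∀ z, Ψ z = ∑ i, q (ctr (bB.coord i) z) • shB (bB i) := fun z => by
      conv_lhs => rw [sum_ctr bB z, map_sum]
      refine Finset.sum_congr rfl fun i _ => ?_
      simp only [Ψ, Algebra.TensorProduct.lift_tmul, AlgHom.comp_apply]
      obtain ⟨p, hp⟩ := hπ (bB i)
      rw [← hp, hshB]
      show Ideal.Quotient.mk J (MvPolynomial.C (q _)) * Ideal.Quotient.mk J _ = _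
      rw [← map_mul, C_mul']
      rfl
    haveI : Module.Finite (B ⧸ M) (MvPolynomial σ (B ⧸ M) ⧸ J) := by
      refine ⟨⟨Finset.univ.image fun i => shB (bB i), eq_top_iff.2 fun x _ => ?_⟩⟩
      obtain ⟨p, rfl⟩ := Ideal.Quotient.mk_surjective x
      obtain ⟨z, rfl⟩ : p ∈ ev.range := by
        induction p using MvPolynomial.induction_on with
        | C a =>
          obtain ⟨b, rfl⟩ := Ideal.Quotient.mk_surjective a
          obtain ⟨p, rfl⟩ := hπ b
          exact ⟨p ⊗ₜ[A] 1, by show ev _ = _; rw [hev, map_one, mul_one]; rfl⟩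
        | add x y hx hy => exact add_mem (hx trivial) (hy trivial)
        | mul_X x i hx => exact mul_mem (hx trivial) ⟨dp (X i), hevX i⟩
      show Ideal.Quotient.mk J (ev z) ∈ _
      rw [← hΨ, hsum]
      exact Submodule.sum_mem _ fun i _ => Submodule.smul_mem _ _
        (Submodule.subset_span (Finset.mem_coe.2 (Finset.mem_image_of_mem _ (Finset.mem_univ i))))
    refine GorInvLib.det_notMem θ (C.map ev) hc' ?_
    rw [← Ideal.Quotient.eq_zero_iff_mem, show (C.map ev).det = ev C.det from (ev.map_det C).symm, ← hΨ, hsum]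
    refine Finset.sum_eq_zero fun i _ => ?_
    rw [show q (ctr (bB.coord i) (Q C.det)) = 0 from Ideal.Quotient.eq_zero_iff_mem.2 (hall i), zero_smul]

variable [Module.Finite A B] [Module.Free A B]

/-- The Bezoutian identifies `Hom_A(B, A)` with `B`. -/
theorem exists_dual_bijective (hker : RingHom.ker π = Ideal.span (Set.range r)) (hπ : Function.Surjective π) :
    ∃ Δ : B ⊗[A] B, Algebra.TensorProduct.lmul' (S := B) A Δ = jac π r ∧
      (∀ b : B, ((1 : B) ⊗ₜ[A] b) * Δ = (b ⊗ₜ[A] (1 : B)) * Δ) ∧ Function.Bijective (ctrₗ Δ) := by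
  obtain ⟨Δ, h1, h2, h3⟩ := exists_bezoutian hker hπ
  have hsurj : Function.Surjective (ctrₗ Δ) := by
    let I : Ideal B :=
      { carrier := Set.range (ctrₗ Δ)
        zero_mem' := ⟨0, map_zero _⟩
        add_mem' := by rintro _ _ ⟨φ, rfl⟩ ⟨ψ, rfl⟩; exact ⟨φ + ψ, map_add _ _ _⟩
        smul_mem' := by
          rintro b _ ⟨φ, rfl⟩
          refine ⟨φ ∘ₗ LinearMap.mulLeft A b, ?_⟩
          show ctr _ Δ = b * ctr φ Δ
          rw [← ctr_right, h2, ctr_left] }
    suffices I = ⊤ by intro b; exact (this ▸ Submodule.mem_top : b ∈ I)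
    by_contra hI
    obtain ⟨M, hM, hle⟩ := Ideal.exists_le_maximal I hI
    obtain ⟨φ, hφ⟩ := h3 M hM
    exact hφ inferInstance inferInstance (hle ⟨φ, rfl⟩)
  refine ⟨Δ, h1, h2, ?_⟩
  classical
  let e := (Module.Free.chooseBasis A B).toDualEquiv
  have := OrzechProperty.bijective_of_surjective_endomorphism (ctrₗ Δ ∘ₗ e.toLinearMap) (hsurj.comp e.surjective)
  exact (Function.Bijective.of_comp_iff (ctrₗ Δ) e.bijective).1 this

/-- **The trace form.** -/
theorem exists_traceForm (hker : RingHom.ker π = Ideal.span (Set.range r)) (hπ : Function.Surjective π) :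
    ∃ T : B →ₗ[A] A, (∀ φ : B →ₗ[A] A, ∃! b : B, φ = T ∘ₗ LinearMap.mulLeft A b) ∧
      ∀ x, Algebra.trace A B x = T (jac π r * x) := by
  classical
  obtain ⟨Δ, h1, h2, hbij⟩ := exists_dual_bijective hker hπ
  obtain ⟨T, hT⟩ := hbij.2 1
  have hmul : ∀ b, ctrₗ Δ (T ∘ₗ LinearMap.mulLeft A b) = b := fun b => by
    show ctr _ Δ = b
    rw [← ctr_right, h2, ctr_left, show ctr T Δ = 1 from hT, mul_one]
  have hrep : ∀ φ, φ = T ∘ₗ LinearMap.mulLeft A (ctrₗ Δ φ) := fun φ => hbij.1 (hmul _).symm
  refine ⟨T, fun φ => ⟨ctrₗ Δ φ, hrep φ, fun b hb => ?_⟩, fun x => ?_⟩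
  · subst hb; exact (hmul b).symm
  let bB := Module.Free.chooseBasis A B
  have hJ : jac π r = ∑ i, ctr (bB.coord i) Δ * bB i := by
    conv_lhs => rw [← h1, sum_ctr bB Δ, map_sum]
    simp
  rw [Algebra.trace_eq_matrix_trace bB, Matrix.trace, hJ, Finset.sum_mul, map_sum]
  refine Finset.sum_congr rfl fun i _ => ?_
  rw [Matrix.diag_apply, Algebra.leftMulMatrix_eq_repr_mul, mul_assoc, mul_comm (bB i) x]
  exact LinearMap.congr_fun (hrep (bB.coord i)) (x * bB i)

/-- The Noether different is generated by the Jacobian. -/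
theorem noetherDifferent_eq (hker : RingHom.ker π = Ideal.span (Set.range r)) (hπ : Function.Surjective π) :
    Disc.noetherDifferent A B = Ideal.span {jac π r} := by
  classical
  obtain ⟨Δ, h1, h2, hbij⟩ := exists_dual_bijective hker hπ
  refine le_antisymm (Ideal.map_le_iff_le_comap.2 fun ξ hξ => ?_) ?_
  · rw [Ideal.mem_comap, Ideal.mem_span_singleton']
    obtain ⟨T, hT⟩ := hbij.2 1
    rw [DiscLib.mem_annihilator_iff] at hξ
    refine ⟨ctr T ξ, ?_⟩
    let bB := Module.Free.chooseBasis A B
    have hlin : ∀ φ, ctr φ ξ = ctr T ξ * ctrₗ Δ φ := fun φ => by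
      have hrep : φ = T ∘ₗ LinearMap.mulLeft A (ctrₗ Δ φ) := hbij.1 (by
        show _ = ctr _ Δ
        rw [← ctr_right, h2, ctr_left, show ctr T Δ = 1 from hT, mul_one])
      conv_lhs => rw [hrep, ← ctr_right, ← hξ, ctr_left]
      rw [mul_comm]
    conv_rhs => rw [sum_ctr bB ξ]
    rw [← h1]
    conv_lhs => rw [sum_ctr bB Δ]
    rw [map_sum, map_sum, Finset.mul_sum]
    refine Finset.sum_congr rfl fun i _ => ?_
    rw [Algebra.TensorProduct.lmul'_apply_tmul, Algebra.TensorProduct.lmul'_apply_tmul, hlin (bB.coord i), mul_assoc]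
    rfl
  · rw [Ideal.span_singleton_le_iff_mem, ← h1]
    exact Ideal.mem_map_of_mem _ ((DiscLib.mem_annihilator_iff Δ).2 fun b => (h2 b).symm)

end Presentation

end Groth.Agent.TateLib

namespace Groth.Agent.TateLib

open Matrix in
/-- The dualizing module of a finite free complete intersection is free, the Jacobian going to the trace. -/
theorem exists_omega_equiv {A : Type u} [CommRing A] {B : Type v} [CommRing B] [Algebra A B] [Module.Finite A B]
    [Module.Free A B] {σ : Type w} [Fintype σ] [DecidableEq σ] (π : MvPolynomial σ A →ₐ[A] B)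
    (r : σ → MvPolynomial σ A) (hker : RingHom.ker π = Ideal.span (Set.range r)) (hπ : Function.Surjective π) :
    ∃ e : B ≃ₗ[B] Disc.Omega A B, e (jac π r) = Disc.Omega.trace A B := by
  obtain ⟨T, hT, htr⟩ := exists_traceForm hker hπ
  let f : B →ₗ[B] Disc.Omega A B :=
    { toFun := fun b => ⟨T ∘ₗ LinearMap.mulLeft A b⟩
      map_add' := fun a b => Disc.Omega.ext (LinearMap.ext fun x => by
        show T ((a + b) * x) = T (a * x) + T (b * x)
        rw [add_mul, map_add])
      map_smul' := fun c b => Disc.Omega.ext (LinearMap.ext fun x => by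
        show T (c * b * x) = T (b * (c * x))
        rw [mul_comm c b, mul_assoc]) }
  have hf : Function.Bijective f := by
    refine ⟨fun a b h => ?_, fun l => ?_⟩
    · exact (hT (T ∘ₗ LinearMap.mulLeft A a)).unique rfl (congrArg Disc.Omega.toLinearMap h)
    · obtain ⟨b, hb, -⟩ := hT l.toLinearMap
      exact ⟨b, Disc.Omega.ext hb.symm⟩
  exact ⟨LinearEquiv.ofBijective f hf, Disc.Omega.ext (LinearMap.ext fun x => (htr x).symm)⟩

end Groth.Agent.TateLib
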