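import Mathlib
import Groth.Prelude.Def_RegImm

/-!
# Finite free syntomic algebras over local rings are global complete intersections
-/

set_option autoImplicit false
set_option backward.isDefEq.respectTransparency false
universe u v w

open MvPolynomial

noncomputable section

namespace Groth.Agent.TateLib

/-- Nakayama. -/
theorem exists_mul_mem {P : Type u} [CommRing P] (J₀ Q I : Ideal P) (hI : I.FG) (h : I ≤ Q ⊔ J₀ * I) :
    ∃ h : P, h - 1 ∈ J₀ ∧ ∀ x ∈ I, h * x ∈ Q := by
  obtain ⟨r, hr, hr0⟩ := Submodule.exists_sub_one_mem_and_smul_eq_zero_of_fg_of_le_smul J₀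
    (Submodule.map Q.mkQ I) (Submodule.FG.map _ hI) (by
      rw [Submodule.map_le_iff_le_comap]
      intro x hx
      obtain ⟨a, ha, b, hb, rfl⟩ := Submodule.mem_sup.1 (h hx)
      rw [Submodule.mem_comap, map_add, show Q.mkQ a = 0 from (Submodule.Quotient.mk_eq_zero Q).2 ha, zero_add,
        ← Submodule.map_smul'']
      exact Submodule.mem_map_of_mem hb)
  refine ⟨r, hr, fun x hx => ?_⟩
  have := hr0 _ (Submodule.mem_map_of_mem (f := Q.mkQ) hx)
  rw [← map_smul] at this
  exact (Submodule.Quotient.mk_eq_zero Q).1 this

/-- Comaximal ideals with generators indexed by the same type. -/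
theorem exists_span_sup_sq {P : Type u} [CommRing P] {ι : Type v} {σ : Type w} [Fintype ι] [Fintype σ]
    (I : ι → Ideal P) (hco : Pairwise (Function.onFun IsCoprime I)) (rel : ι → σ → P)
    (hrel : ∀ i, I i = Ideal.span (Set.range (rel i))) :
    ∃ r : σ → P, (∀ l, r l ∈ ⨅ i, I i) ∧ (⨅ i, I i) ≤ Ideal.span (Set.range r) ⊔ (⨅ i, I i) ^ 2 := by
  classical
  have hco2 : Pairwise (Function.onFun IsCoprime fun i => I i ^ 2) := fun i j hij => (hco hij).pow
  choose r hr using fun l => Ideal.exists_forall_sub_mem_ideal hco2 fun i => rel i l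
  have hrI : ∀ l i, r l ∈ I i := fun l i => by
    have h1 : rel i l ∈ I i := hrel i ▸ Ideal.subset_span ⟨l, rfl⟩
    have h2 : r l - rel i l ∈ I i := Ideal.pow_le_self two_ne_zero (hr l i)
    simpa using add_mem h2 h1
  refine ⟨r, fun l => Submodule.mem_iInf _ |>.2 (hrI l), fun x hx => ?_⟩
  rw [Submodule.mem_iInf] at hx
  choose a ha using fun i => Ideal.mem_span_range_iff_exists_fun.1 (hrel i ▸ hx i : x ∈ Ideal.span (Set.range (rel i)))
  choose b hb using fun l => Ideal.exists_forall_sub_mem_ideal hco2 fun i => a i l
  refine Submodule.mem_sup.2 ⟨∑ l, b l * r l, Ideal.sum_mem _ fun l _ => Ideal.mul_mem_left _ _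
    (Ideal.subset_span ⟨l, rfl⟩), x - ∑ l, b l * r l, ?_, by ring⟩
  have hsq : (⨅ i, I i) ^ 2 = ⨅ i, I i ^ 2 := by
    have e1 := Ideal.prod_eq_iInf_of_pairwise_isCoprime (s := (Finset.univ : Finset ι)) (J := I)
      (hco.set_pairwise _)
    have e2 := Ideal.prod_eq_iInf_of_pairwise_isCoprime (s := (Finset.univ : Finset ι)) (J := fun i => I i ^ 2)
      (hco2.set_pairwise _)
    simp only [Finset.mem_univ, iInf_pos] at e1 e2
    rw [← e1, ← e2, Finset.prod_pow]
  rw [hsq, Submodule.mem_iInf]
  intro i
  rw [← ha i, ← Finset.sum_sub_distrib]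
  refine Ideal.sum_mem _ fun l _ => ?_
  have : a i l * rel i l - b l * r l = -((b l - a i l) * r l) - a i l * (r l - rel i l) := by ring
  rw [this]
  refine sub_mem (neg_mem ?_) (Ideal.mul_mem_left _ _ (hr l i))
  exact Ideal.mul_mem_right _ _ (hb l i)

variable {A : Type u} [CommRing A] {B : Type v} [CommRing B] [Algebra A B] {σ : Type w}

theorem sub_rename_mem {τ : Type*} (s : MvPolynomial τ A →ₐ[A] MvPolynomial σ A) (f : σ → τ)
    (K : Ideal (MvPolynomial τ A)) (h : ∀ t, X t - rename f (s (X t)) ∈ K) (p : MvPolynomial τ A) :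
    p - rename f (s p) ∈ K := by
  rw [← Ideal.Quotient.eq]
  have := MvPolynomial.algHom_ext (f := Ideal.Quotient.mkₐ A K)
    (g := ((Ideal.Quotient.mkₐ A K).comp (rename f)).comp s) fun t => Ideal.Quotient.eq.2 (h t)
  exact AlgHom.congr_fun this p

/-- One more variable turns generators modulo the square into generators. -/
theorem exists_presentation_of_sq [Fintype σ] (π : MvPolynomial σ A →ₐ[A] B) (hπ : Function.Surjective π)
    (r : σ → MvPolynomial σ A) (hr : ∀ i, π (r i) = 0) (hfg : (RingHom.ker π).FG)
    (h : RingHom.ker π ≤ Ideal.span (Set.range r) ⊔ RingHom.ker π * RingHom.ker π) :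
    ∃ (π' : MvPolynomial (Option σ) A →ₐ[A] B) (r' : Option σ → MvPolynomial (Option σ) A),
      Function.Surjective π' ∧ RingHom.ker π' = Ideal.span (Set.range r') := by
  obtain ⟨e, he, hemem⟩ := exists_mul_mem _ _ _ hfg h
  let π' : MvPolynomial (Option σ) A →ₐ[A] B := aeval fun o => o.elim 1 fun s => π (X s)
  let r' : Option σ → MvPolynomial (Option σ) A :=
    fun o => o.elim (X none * rename some e - 1) fun l => rename some (r l)
  let s : MvPolynomial (Option σ) A →ₐ[A] MvPolynomial σ A := aeval fun o => o.elim 1 X
  have hπ' : ∀ p, π' (rename some p) = π p := fun p =>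
    AlgHom.congr_fun (show π'.comp (rename some) = π from MvPolynomial.algHom_ext fun i => by simp [π']) p
  have hs : ∀ p, π (s p) = π' p := fun p =>
    AlgHom.congr_fun (show π.comp s = π' from MvPolynomial.algHom_ext fun o => by cases o <;> simp [π', s]) p
  refine ⟨π', r', fun b => ?_, le_antisymm ?_ (Ideal.span_le.2 ?_)⟩
  · obtain ⟨p, rfl⟩ := hπ b
    exact ⟨_, hπ' p⟩
  · let K := Ideal.span (Set.range r')
    have hnone : X none * rename some e - 1 ∈ K := Ideal.subset_span ⟨none, rfl⟩
    have hker : ∀ x ∈ RingHom.ker π, rename some x ∈ K := fun x hx => by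
      have h1 : rename some (e * x) ∈ K := by
        have hle : Ideal.span (Set.range r) ≤ K.comap (rename some : MvPolynomial σ A →ₐ[A] _) := by
          rw [Ideal.span_le]
          rintro _ ⟨l, rfl⟩
          exact Ideal.subset_span ⟨some l, rfl⟩
        exact hle (hemem x hx)
      have : rename some x = X none * rename some (e * x) - (X none * rename some e - 1) * rename some x := by
        rw [map_mul]; ring
      rw [this]
      exact sub_mem (Ideal.mul_mem_left _ _ h1) (Ideal.mul_mem_right _ _ hnone)
    intro p hp
    have hp' : rename some (s p) ∈ K := hker _ (by rw [RingHom.mem_ker, hs]; exact hp)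
    have hd : p - rename some (s p) ∈ K := sub_rename_mem s some K (fun o => by
      cases o with
      | none =>
        have : (X none : MvPolynomial (Option σ) A) - rename some (s (X none)) =
            (X none * rename some e - 1) - X none * rename some (e - 1) := by
          simp [s]; ring
        rw [this]
        exact sub_mem hnone (Ideal.mul_mem_left _ _ (hker _ he))
      | some i => simp [s]) p
    simpa using add_mem hd hp'
  · rintro _ ⟨o, rfl⟩
    cases o with
    | none =>
      have h1 : π e = 1 := by
        have := RingHom.mem_ker.1 he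
        rwa [map_sub, map_one, sub_eq_zero] at this
      show π' (X none * rename some e - 1) = 0
      rw [map_sub, map_mul, hπ', h1]
      simp [π']
    | some l => exact (hπ' (r l)).trans (hr l)

/-- A finite algebra over a field which is a complete intersection at every point is, modulo the square of
the ideal, cut out by as many equations as variables. -/
theorem exists_presentation_field (k : Type u) [Field k] (F : Type u) [CommRing F] [Algebra k F] [Module.Finite k F]
    (hF : Synt.IsLCIOver k F) :
    ∃ (σ : Type u) (_ : Fintype σ) (π : MvPolynomial σ k →ₐ[k] F) (r : σ → MvPolynomial σ k),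
      Function.Surjective π ∧ (∀ l, π (r l) = 0) ∧
        RingHom.ker π ≤ Ideal.span (Set.range r) ⊔ RingHom.ker π * RingHom.ker π := by
  classical
  haveI : IsArtinianRing F := IsArtinianRing.of_finite k F
  have hloc : ∀ p : MaximalSpectrum F, ∃ (m : ℕ) (φ : MvPolynomial (Fin m) k →ₐ[k] Localization.AtPrime p.asIdeal)
      (r : Fin m → MvPolynomial (Fin m) k), Function.Surjective φ ∧ RingHom.ker φ = Ideal.span (Set.range r) := by
    intro p
    obtain ⟨g, hg, hG⟩ := hF.2 ⟨p.asIdeal, inferInstance⟩
    let ψ : Localization.Away g →ₐ[k] Localization.AtPrime p.asIdeal :=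
      IsLocalization.liftAlgHom (M := Submonoid.powers g) (f := IsScalarTower.toAlgHom k F (Localization.AtPrime p.asIdeal))
        (by
          rintro ⟨_, n, rfl⟩
          rw [map_pow]
          exact (IsLocalization.map_units (Localization.AtPrime p.asIdeal) (⟨g, hg⟩ : p.asIdeal.primeCompl)).pow n)
    have hψ : ∀ x, ψ (algebraMap F _ x) = algebraMap F _ x := fun x => IsLocalization.lift_eq _ _
    have hψs : Function.Surjective ψ := fun y => by
      obtain ⟨x, rfl⟩ := IsArtinianRing.localization_surjective p.asIdeal.primeCompl (Localization.AtPrime p.asIdeal) y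
      exact ⟨_, hψ x⟩
    haveI : Nontrivial (Localization.Away g) := by
      by_contra hn
      rw [not_nontrivial_iff_subsingleton] at hn
      exact one_ne_zero (α := Localization.AtPrime p.asIdeal) ((map_one ψ).symm.trans
        ((congrArg ψ (Subsingleton.elim (1 : Localization.Away g) 0)).trans (map_zero ψ)))
    obtain ⟨m, c, hcm, φ, r, hφ, hker, hdim⟩ := hG.resolve_left (not_subsingleton _)
    haveI : IsArtinianRing (Localization.Away g) :=
      (IsArtinianRing.localization_surjective (Submonoid.powers g) (Localization.Away g)).isArtinianRing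
    rw [ringKrullDimZero_iff_ringKrullDim_eq_zero.1 inferInstance] at hdim
    obtain rfl : c = m := by
      have : ((0 : ℕ) : WithBot ℕ∞) = ((m - c : ℕ) : WithBot ℕ∞) := hdim
      have := Nat.cast_inj.1 this
      omega
    obtain ⟨e, he, hKe⟩ : ∃ e, IsIdempotentElem e ∧ RingHom.ker ψ = Ideal.span {e} := by
      refine (Ideal.isIdempotentElem_iff_of_fg _ (IsNoetherian.noetherian _)).1 ?_
      refine le_antisymm Ideal.mul_le_left fun x hx => ?_
      obtain ⟨x', rfl⟩ := IsArtinianRing.localization_surjective (Submonoid.powers g) (Localization.Away g) x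
      have : algebraMap F (Localization.AtPrime p.asIdeal) x' = 0 := by rw [← hψ]; exact hx
      obtain ⟨⟨u, hu⟩, hux⟩ := (IsLocalization.map_eq_zero_iff p.asIdeal.primeCompl _ _).1 this
      obtain ⟨v, i, hi, hvi⟩ := p.isMaximal.exists_inv hu
      obtain ⟨N, hN⟩ : IsNilpotent (IsLocalRing.maximalIdeal (Localization.AtPrime p.asIdeal)) := by
        have := IsArtinianRing.isNilpotent_jacobson_bot (R := Localization.AtPrime p.asIdeal)
        rwa [IsLocalRing.jacobson_eq_maximalIdeal ⊥ bot_ne_top] at this
      have hmem : algebraMap F (Localization.Away g) (i ^ N) ∈ RingHom.ker ψ := by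
        rw [RingHom.mem_ker, hψ, map_pow]
        have := Ideal.pow_mem_pow ((IsLocalization.AtPrime.to_map_mem_maximal_iff
          (Localization.AtPrime p.asIdeal) p.asIdeal i).2 hi) N
        rwa [hN] at this
      have hx' : x' = i ^ N * x' := by
        have h1 : i * x' = x' := by
          calc i * x' = (v * u + i) * x' := by rw [add_mul, mul_assoc, hux, mul_zero, zero_add]
            _ = x' := by rw [hvi, one_mul]
        clear hmem hN
        induction N with
        | zero => simp
        | succ N ih => rw [pow_succ, mul_assoc, h1, ← ih]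
      rw [hx', map_mul]
      exact Ideal.mul_mem_mul hmem hx
    obtain ⟨e', rfl⟩ := hφ e
    have hee : e' * e' - e' ∈ Ideal.span (Set.range r) := by
      rw [← hker, RingHom.mem_ker]
      show φ (e' * e' - e') = 0
      rw [map_sub, map_mul, he.eq, sub_self]
    let φ' : MvPolynomial (Option (Fin c)) k →ₐ[k] Localization.AtPrime p.asIdeal :=
      aeval fun o => o.elim 1 fun s => ψ (φ (X s))
    let r' : Option (Fin c) → MvPolynomial (Option (Fin c)) k :=
      fun o => o.elim (X none * rename some (1 - e') - 1) fun l => rename some (r l)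
    have hφ' : ∀ q, φ' (rename some q) = ψ (φ q) := fun q =>
      AlgHom.congr_fun (show φ'.comp (rename some) = ψ.comp φ from MvPolynomial.algHom_ext fun i => by simp [φ']) q
    have hψe : ψ (φ e') = 0 := by
      rw [← RingHom.mem_ker, hKe]; exact Ideal.mem_span_singleton_self _
    have hker' : RingHom.ker φ' = Ideal.span (Set.range r') := by
      refine le_antisymm (fun q hq => ?_) (Ideal.span_le.2 ?_)
      · let K := Ideal.span (Set.range r')
        have hnone : X none * rename some (1 - e') - 1 ∈ K := Ideal.subset_span ⟨none, rfl⟩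
        have hre : ∀ x ∈ Ideal.span (Set.range r), rename some x ∈ K := fun x hx => by
          have hle : Ideal.span (Set.range r) ≤ K.comap (rename some : MvPolynomial (Fin c) k →ₐ[k] _) := by
            rw [Ideal.span_le]
            rintro _ ⟨l, rfl⟩
            exact Ideal.subset_span ⟨some l, rfl⟩
          exact hle hx
        have he' : rename some e' ∈ K := by
          have : rename some e' = -(X none * rename some (e' * e' - e')) - rename some e' *
              (X none * rename some (1 - e') - 1) := by
            simp only [map_sub, map_mul, map_one]; ring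
          rw [this]
          exact sub_mem (neg_mem (Ideal.mul_mem_left _ _ (hre _ hee))) (Ideal.mul_mem_left _ _ hnone)
        let s : MvPolynomial (Option (Fin c)) k →ₐ[k] MvPolynomial (Fin c) k := aeval fun o => o.elim 1 X
        have hs : ψ (φ (s q)) = φ' q :=
          AlgHom.congr_fun (show (ψ.comp φ).comp s = φ' from
            MvPolynomial.algHom_ext fun o => by cases o <;> simp [φ', s]) q
        have hmem : rename some (s q) ∈ K := by
          have h1 : φ (s q) ∈ RingHom.ker ψ := by rw [RingHom.mem_ker, hs]; exact hq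
          rw [hKe, Ideal.mem_span_singleton'] at h1
          obtain ⟨a, ha⟩ := h1
          obtain ⟨a, rfl⟩ := hφ a
          have h2 : s q - a * e' ∈ Ideal.span (Set.range r) := by
            rw [← hker, RingHom.mem_ker]
            show φ (s q - a * e') = 0
            rw [map_sub, map_mul, ha, sub_self]
          have h3 := add_mem (hre _ h2) (K.mul_mem_left (rename some a) he')
          rw [← map_mul, ← map_add, sub_add_cancel] at h3
          exact h3
        have hd : q - rename some (s q) ∈ K := sub_rename_mem s some K (fun o => by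
          cases o with
          | none =>
            have : (X none : MvPolynomial (Option (Fin c)) k) - rename some (s (X none)) =
                (X none * rename some (1 - e') - 1) + X none * rename some e' := by
              simp [s]; ring
            rw [this]
            exact add_mem hnone (Ideal.mul_mem_left _ _ he')
          | some i => simp [s]) q
        simpa using add_mem hd hmem
      · rintro _ ⟨o, rfl⟩
        cases o with
        | none =>
          show φ' (X none * rename some (1 - e') - 1) = 0
          rw [map_sub, map_mul, hφ', map_sub, map_sub, hψe]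
          simp [φ']
        | some l =>
          show φ' (rename some (r l)) = 0
          rw [hφ', show φ (r l) = 0 from RingHom.mem_ker.1 (hker.symm ▸ Ideal.subset_span ⟨l, rfl⟩), map_zero]
    have hφ's : Function.Surjective φ' := fun y => by
      obtain ⟨z, rfl⟩ := hψs y
      obtain ⟨q, rfl⟩ := hφ z
      exact ⟨_, hφ' q⟩
    let E := Fintype.equivFin (Option (Fin c))
    refine ⟨_, φ'.comp (renameEquiv k E.symm).toAlgHom, fun i => renameEquiv k E (r' (E.symm i)),
      hφ's.comp (renameEquiv k E.symm).surjective, ?_⟩
    ext q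
    rw [RingHom.mem_ker]
    show φ' (renameEquiv k E.symm q) = 0 ↔ _
    rw [← RingHom.mem_ker, hker', ← Ideal.apply_mem_of_equiv_iff (f := (renameEquiv k E).toRingEquiv)]
    show renameEquiv k E (renameEquiv k E.symm q) ∈ _ ↔ _
    rw [← renameEquiv_symm, AlgEquiv.apply_symm_apply, Ideal.map_span, ← Set.range_comp,
      ← E.symm.surjective.range_comp]
    rfl
  choose m φ r hφ hker using hloc
  letI := Fintype.ofFinite (MaximalSpectrum F)
  let τ := (Σ p : MaximalSpectrum F, Fin (m p)) ⊕ MaximalSpectrum F
  let pr (p : MaximalSpectrum F) : MvPolynomial τ k →ₐ[k] MvPolynomial (Fin (m p)) k :=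
    aeval (Sum.elim (fun x => if h : x.1 = p then X (h ▸ x.2) else 0) fun j => if j = p then 1 else 0)
  let inj (p : MaximalSpectrum F) : MvPolynomial (Fin (m p)) k →ₐ[k] MvPolynomial τ k :=
    rename fun a => Sum.inl ⟨p, a⟩
  let rel (p : MaximalSpectrum F) : τ → MvPolynomial τ k :=
    Sum.elim (fun x => if h : x.1 = p then inj p (r p (h ▸ x.2)) else X (Sum.inl x))
      fun j => X (Sum.inr j) - if j = p then 1 else 0
  have hprinj : ∀ p q, pr p (inj p q) = q := fun p q =>
    AlgHom.congr_fun (show (pr p).comp (inj p) = AlgHom.id k _ from MvPolynomial.algHom_ext fun a => by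
      simp [pr, inj]) q
  let I (p : MaximalSpectrum F) : Ideal (MvPolynomial τ k) := RingHom.ker ((φ p).comp (pr p))
  have hrel : ∀ p, I p = Ideal.span (Set.range (rel p)) := by
    intro p
    refine le_antisymm (fun q hq => ?_) (Ideal.span_le.2 ?_)
    · let K := Ideal.span (Set.range (rel p))
      have h1 : inj p (pr p q) ∈ K := by
        have hle : RingHom.ker (φ p) ≤ K.comap (inj p) := by
          rw [hker, Ideal.span_le]
          rintro _ ⟨a, rfl⟩
          exact Ideal.subset_span ⟨Sum.inl ⟨p, a⟩, by simp [rel]⟩
        exact hle hq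
      have hd : q - inj p (pr p q) ∈ K := sub_rename_mem (pr p) _ K (fun t => by
        rcases t with ⟨j, a⟩ | j
        · by_cases h : j = p
          · subst h; simp [pr]
          · have : X (Sum.inl ⟨j, a⟩) ∈ K := Ideal.subset_span ⟨Sum.inl ⟨j, a⟩, by simp [rel, h]⟩
            simpa [pr, h] using this
        · have : X (Sum.inr j) - (if j = p then 1 else 0) ∈ K := Ideal.subset_span ⟨Sum.inr j, by simp [rel]⟩
          by_cases h : j = p <;> simpa [pr, h] using this) q
      simpa using add_mem hd h1
    · rintro _ ⟨t, rfl⟩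
      show φ p (pr p (rel p t)) = 0
      rcases t with ⟨j, a⟩ | j
      · by_cases h : j = p
        · subst h
          simp only [rel, Sum.elim_inl, dif_pos, hprinj]
          exact RingHom.mem_ker.1 (hker j ▸ Ideal.subset_span ⟨a, rfl⟩)
        · simp [rel, pr, h]
      · by_cases h : j = p <;> simp [rel, pr, h]
  have hco : Pairwise (Function.onFun IsCoprime I) := fun p p' hpp => by
    show IsCoprime (I p) (I p')
    rw [Ideal.isCoprime_iff_exists]
    refine ⟨1 - X (Sum.inr p), ?_, X (Sum.inr p), ?_, by ring⟩ <;> rw [RingHom.mem_ker] <;> simp [pr, hpp]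
  obtain ⟨rr, hrr, hle⟩ := exists_span_sup_sq I hco rel hrel
  let loc : F →ₐ[k] (∀ p : MaximalSpectrum F, Localization.AtPrime p.asIdeal) :=
    Pi.algHom k _ fun p => IsScalarTower.toAlgHom k F _
  have hloci : Function.Injective loc := fun a b h => MaximalSpectrum.toPiLocalization_injective F h
  have hlocs : Function.Surjective loc := by
    have hco' : Pairwise (Function.onFun IsCoprime fun p : MaximalSpectrum F =>
        RingHom.ker (algebraMap F (Localization.AtPrime p.asIdeal))) := fun p p' hpp => by
      show IsCoprime (RingHom.ker _) (RingHom.ker _)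
      rw [Ideal.isCoprime_iff_sup_eq]
      by_contra hne
      obtain ⟨M, hM, hle⟩ := Ideal.exists_le_maximal _ hne
      have key : ∀ q : MaximalSpectrum F, RingHom.ker (algebraMap F (Localization.AtPrime q.asIdeal)) ≤ M → q.asIdeal = M := by
        intro q hq
        refine (hM.eq_of_le q.isMaximal.ne_top fun x hx => ?_).symm
        by_contra hxq
        obtain ⟨y, hy⟩ := IsArtinianRing.localization_surjective q.asIdeal.primeCompl (Localization.AtPrime q.asIdeal)
          (IsLocalization.map_units (Localization.AtPrime q.asIdeal) (⟨x, hxq⟩ : q.asIdeal.primeCompl)).unit⁻¹.val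
        have h1 : x * y - 1 ∈ RingHom.ker (algebraMap F (Localization.AtPrime q.asIdeal)) := by
          rw [RingHom.mem_ker, map_sub, map_mul, hy, map_one, IsUnit.mul_val_inv, sub_self]
        exact hM.ne_top ((Ideal.eq_top_iff_one _).2 (by
          have := sub_mem (M.mul_mem_right y hx) (hq h1); simpa using this))
      exact hpp (MaximalSpectrum.ext ((key p (le_sup_left.trans hle)).trans (key p' (le_sup_right.trans hle)).symm))
    intro z
    choose x hx using fun p : MaximalSpectrum F =>
      IsArtinianRing.localization_surjective p.asIdeal.primeCompl (Localization.AtPrime p.asIdeal) (z p)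
    obtain ⟨y, hy⟩ := Ideal.exists_forall_sub_mem_ideal hco' x
    refine ⟨y, funext fun p => ?_⟩
    show algebraMap F _ y = z p
    rw [← hx p, ← sub_eq_zero, ← map_sub]
    exact hy p
  let E := AlgEquiv.ofBijective loc ⟨hloci, hlocs⟩
  let Φ : MvPolynomial τ k →ₐ[k] (∀ p : MaximalSpectrum F, Localization.AtPrime p.asIdeal) :=
    Pi.algHom k _ fun p => (φ p).comp (pr p)
  have hΦ : Function.Surjective Φ := fun z => by
    choose q hq using fun p => hφ p (z p)
    refine ⟨∑ p, X (Sum.inr p) * inj p (q p), funext fun j => ?_⟩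
    show φ j (pr j (∑ p, X (Sum.inr p) * inj p (q p))) = z j
    rw [map_sum, map_sum, Finset.sum_eq_single j]
    · rw [map_mul, hprinj]; simp [pr, hq]
    · intro p _ hp; simp [pr, hp]
    · simp
  have hkerπ : RingHom.ker (E.symm.toAlgHom.comp Φ) = ⨅ p, I p := by
    ext q
    rw [RingHom.mem_ker, Submodule.mem_iInf]
    show E.symm (Φ q) = 0 ↔ _
    rw [map_eq_zero_iff _ E.symm.injective, _root_.funext_iff]
    rfl
  refine ⟨τ, inferInstance, E.symm.toAlgHom.comp Φ, rr, E.symm.surjective.comp hΦ, fun l => ?_, ?_⟩
  · have := hrr l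
    rw [← hkerπ] at this
    exact this
  · rw [hkerπ, ← pow_two]
    exact hle

/-- Over a local ring, a finite free algebra with complete intersection closed fibre is a global complete
intersection. -/
theorem exists_presentation_of_fibre {A : Type u} [CommRing A] [IsLocalRing A] {k : Type u} [Field k] [Algebra A k]
    (hk : Function.Surjective (algebraMap A k)) {B : Type u} [CommRing B] [Algebra A B] [Module.Finite A B]
    [Module.Free A B] {F : Type u} [CommRing F] [Algebra k F] [Algebra A F] [IsScalarTower A k F] [Module.Finite k F]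
    (φ : B →ₐ[A] F) (hφ : Function.Surjective φ)
    (hφk : RingHom.ker φ ≤ (RingHom.ker (algebraMap A k)).map (algebraMap A B))
    (hF : Synt.IsLCIOver k F) :
    ∃ (σ : Type u) (_ : Fintype σ) (π : MvPolynomial σ A →ₐ[A] B) (r : σ → MvPolynomial σ A),
      Function.Surjective π ∧ RingHom.ker π = Ideal.span (Set.range r) := by
  classical
  haveI : Module.FinitePresentation A B := Module.finitePresentation_of_projective A B
  haveI : Algebra.FinitePresentation A B := Algebra.FinitePresentation.of_finitePresentation A B
  obtain ⟨σ, hσ, π₀, r₀, hπ₀, hr₀, hle⟩ := exists_presentation_field k F hF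
  let m := RingHom.ker (algebraMap A k)
  have hm : m = IsLocalRing.maximalIdeal A :=
    IsLocalRing.eq_maximalIdeal (RingHom.ker_isMaximal_of_surjective _ hk)
  choose x hx using fun s => hφ (π₀ (X s))
  let π : MvPolynomial σ A →ₐ[A] B := aeval x
  let red : MvPolynomial σ A →ₐ[A] MvPolynomial σ k := MvPolynomial.mapAlgHom (Algebra.ofId A k)
  have hred : Function.Surjective red := MvPolynomial.map_surjective (algebraMap A k) hk
  have hcomm : ∀ q, φ (π q) = π₀ (red q) := fun q =>
    AlgHom.congr_fun (show φ.comp π = (π₀.restrictScalars A).comp red from MvPolynomial.algHom_ext fun s => by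
      simp [π, red, hx]) q
  have hmB : m.map (algebraMap A B) ≤ (IsLocalRing.maximalIdeal A).map (algebraMap A B) := by rw [hm]
  have hπ : Function.Surjective π := by
    have htop : (⊤ : Submodule A B) ≤ LinearMap.range π.toLinearMap ⊔ IsLocalRing.maximalIdeal A • ⊤ := by
      intro b _
      obtain ⟨q₀, hq₀⟩ := hπ₀ (φ b)
      obtain ⟨q, rfl⟩ := hred q₀
      refine Submodule.mem_sup.2 ⟨π q, ⟨q, rfl⟩, b - π q, ?_, by ring⟩
      rw [Ideal.smul_top_eq_map, Submodule.restrictScalars_mem]
      exact hmB (hφk (by rw [RingHom.mem_ker, map_sub, hcomm, hq₀, sub_self]))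
    have := Submodule.le_of_le_smul_of_le_jacobson_bot (Module.Finite.fg_top (R := A) (M := B))
      (IsLocalRing.maximalIdeal_le_jacobson _) htop
    intro b
    exact this Submodule.mem_top
  let mP := m.map (algebraMap A (MvPolynomial σ A))
  have hredker : ∀ q, red q = 0 → q ∈ mP := fun q hq => by
    show q ∈ m.map (MvPolynomial.C : A →+* MvPolynomial σ A)
    rw [MvPolynomial.mem_map_C_iff]
    intro d
    rw [RingHom.mem_ker]
    have := congrArg (coeff d) hq
    simpa [red, coeff_map] using this
  have hmPmap : mP.map π = m.map (algebraMap A B) := by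
    show (m.map (algebraMap A (MvPolynomial σ A))).map π.toRingHom = _
    rw [Ideal.map_map]
    congr 1
    exact π.comp_algebraMap
  have hlift : ∀ q₀, π₀ q₀ = 0 → ∃ q, π q = 0 ∧ red q = q₀ := fun q₀ hq₀ => by
    obtain ⟨q, rfl⟩ := hred q₀
    have h1 : π q ∈ mP.map π := by
      rw [hmPmap]; exact hφk (by rw [RingHom.mem_ker, hcomm]; exact hq₀)
    obtain ⟨w, hw, hwq⟩ := (Ideal.mem_map_iff_of_surjective π hπ).1 h1
    refine ⟨q - w, by rw [map_sub, hwq, sub_self], ?_⟩
    rw [map_sub, show red w = 0 from ?_, sub_zero]
    have hle' : mP ≤ RingHom.ker red := by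
      rw [Ideal.map_le_iff_le_comap]
      intro a ha
      rw [Ideal.mem_comap, RingHom.mem_ker, AlgHom.commutes, IsScalarTower.algebraMap_apply A k (MvPolynomial σ k),
        RingHom.mem_ker.1 ha, map_zero]
    exact hle' hw
  choose r hr using fun l => hlift (r₀ l) (hr₀ l)
  let I := RingHom.ker π
  have hfg : I.FG := Algebra.FinitePresentation.ker_fG_of_surjective π hπ
  have hsplit : ∀ q ∈ I, q ∈ mP → q ∈ mP * I := by
    obtain ⟨s, hs⟩ := Module.projective_lifting_property π.toLinearMap LinearMap.id hπ
    have key : ∀ q ∈ (m • ⊤ : Submodule A (MvPolynomial σ A)), q - s (π q) ∈ mP * I := by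
      intro q hq
      refine Submodule.smul_induction_on hq (fun a ha p _ => ?_) (fun p p' hp hp' => ?_)
      · rw [map_smul, map_smul, ← smul_sub, Algebra.smul_def]
        refine Ideal.mul_mem_mul (Ideal.mem_map_of_mem _ ha) ?_
        rw [RingHom.mem_ker, map_sub, sub_eq_zero]
        exact (LinearMap.congr_fun hs (π p)).symm
      · rw [map_add, map_add, add_sub_add_comm]; exact add_mem hp hp'
    intro q hq hqm
    have := key q (by rw [Ideal.smul_top_eq_map]; exact hqm)
    rwa [RingHom.mem_ker.1 hq, map_zero, sub_zero] at this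
  have hI2 : I ≤ Ideal.span (Set.range r) ⊔ I * I ⊔ mP * I := by
    intro q hq
    have h1 : red q ∈ (Ideal.span (Set.range r) ⊔ I * I).map red := by
      have h0 : red q ∈ RingHom.ker π₀ := by
        rw [RingHom.mem_ker, ← hcomm, RingHom.mem_ker.1 hq, map_zero]
      have hIred : RingHom.ker π₀ ≤ I.map red := fun q₀ hq₀ => by
        obtain ⟨w, hw, rfl⟩ := hlift q₀ hq₀
        exact Ideal.mem_map_of_mem _ hw
      rw [Ideal.map_sup, Ideal.map_span, ← Set.range_comp, Ideal.map_mul,
        show red ∘ r = r₀ from funext fun l => (hr l).2]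
      exact (sup_le_sup le_rfl (Ideal.mul_mono hIred hIred)) (hle h0)
    obtain ⟨w, hw, hwq⟩ := (Ideal.mem_map_iff_of_surjective red hred).1 h1
    have hwI : w ∈ I := by
      refine (sup_le ?_ Ideal.mul_le_left : Ideal.span (Set.range r) ⊔ I * I ≤ I) hw
      rw [Ideal.span_le]
      rintro _ ⟨l, rfl⟩
      exact RingHom.mem_ker.2 (hr l).1
    refine Submodule.mem_sup.2 ⟨w, hw, q - w, ?_, by ring⟩
    exact hsplit _ (sub_mem hq hwI) (hredker _ (by rw [map_sub, hwq, sub_self]))
  obtain ⟨h, hh, hhI⟩ := exists_mul_mem mP (Ideal.span (Set.range r) ⊔ I * I) I hfg hI2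
  have hu : IsUnit (π h) := by
    have h1 : π h - 1 ∈ (IsLocalRing.maximalIdeal A).map (algebraMap A B) := hmB (by
      rw [← hmPmap, ← map_one π, ← map_sub]
      exact Ideal.mem_map_of_mem _ hh)
    by_contra hnu
    obtain ⟨M, hM, hhM⟩ := exists_max_ideal_of_mem_nonunits hnu
    have hle' : (IsLocalRing.maximalIdeal A).map (algebraMap A B) ≤ M := by
      rw [Ideal.map_le_iff_le_comap, IsLocalRing.eq_maximalIdeal (Ideal.isMaximal_comap_of_isIntegral_of_isMaximal (R := A) M)]
    exact hM.ne_top ((Ideal.eq_top_iff_one _).2 (by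
      have := sub_mem hhM (hle' h1); simpa using this))
  obtain ⟨v, hv⟩ := hu.exists_left_inv
  obtain ⟨v, rfl⟩ := hπ v
  have hfin : I ≤ Ideal.span (Set.range r) ⊔ I * I := fun q hq => by
    have : q = v * (h * q) + (1 - v * h) * q := by ring
    rw [this]
    refine add_mem (Ideal.mul_mem_left _ _ (hhI q hq)) (Submodule.mem_sup_right (Ideal.mul_mem_mul ?_ hq))
    rw [RingHom.mem_ker, map_sub, map_one, map_mul, hv, sub_self]
  obtain ⟨π', r', hπ', hker'⟩ := exists_presentation_of_sq π hπ r (fun l => (hr l).1) hfg hfin
  exact ⟨Option σ, inferInstance, π', r', hπ', hker'⟩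

end Groth.Agent.TateLib
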